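import Cfsg.Agent.Lib.LyonsOut.Data
import Cfsg.Agent.Lib.HNPresented.Engine
import Cfsg.Agent.Lib.Lyons.GenNeOne

/-!
# Elements of the Lyons group with orders not dividing that of G2(5)

* `pk`, `pk_rep` : powers by squaring of a packed matrix
* `not_pow_card` : the five excluded candidates contain such an element
-/

set_option autoImplicit false
set_option maxRecDepth 100000

open Cfsg

namespace Cfsg.Agent.LyonsOut

open Cfsg.Agent.CosetEnum (force force_eq)
open Cfsg.Agent.LyPresented (IsRep mmul)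
open Cfsg.Agent.Lyons (M111 lmat pone pone_rep pword pword_rep rep_num_unique wordLy phi phi_ev)
open Cfsg.Agent.HNPresented (sub')

/-- The value of bits, lowest first. -/
def bitsVal : List Bool → ℕ
  | [] => 0
  | b :: l => 2 * bitsVal l + cond b 1 0

/-- The bits of a number below 128. -/
def bits7 (n : ℕ) : List Bool := (List.range 7).map fun i => n.testBit i

/-- The packed power, bits lowest first. -/
noncomputable def pk (W : ℕ) : List Bool → ℕ
  | [] => pone
  | b :: l => force (pk W l) fun r => force (mmul 111 r r) fun s => cond b (mmul 111 s W) s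

theorem pk_rep {W : ℕ} {A : M111} (h : IsRep 111 W A) : ∀ l : List Bool, IsRep 111 (pk W l) (A ^ bitsVal l)
  | [] => by simpa [pk, bitsVal] using pone_rep
  | b :: l => by
    have h1 := (pk_rep h l).mul (by norm_num) (pk_rep h l)
    rw [pk, force_eq, force_eq, bitsVal]
    cases b
    · simpa [pow_mul, pow_two, ← mul_pow, ← pow_add, two_mul] using h1
    · have h2 := h1.mul (by norm_num) h
      simpa [pow_add, two_mul, pow_one] using h2

/-- The word of a candidate. -/
def exclWord (k : ℕ) (c : List ℕ) : List ℕ := sub' ([[18] ++ reps.getD k [], [14]] ++ uGens) c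

/-- The check of one candidate. -/
noncomputable def exclOK (t : ℕ × List ℕ × ℕ × ℕ) : Bool :=
  (exclWord t.1 t.2.1).all (fun q => Nat.blt q 20) && (5859000000 % t.2.2.1 == t.2.2.2) &&
    (bitsVal (bits7 t.2.2.1) == t.2.2.1) && (bitsVal (bits7 t.2.2.2) == t.2.2.2) &&
    force (pword (exclWord t.1 t.2.1)) fun W =>
      Nat.beq (pk W (bits7 t.2.2.1)) pone && !(Nat.beq (pk W (bits7 t.2.2.2)) pone)

theorem excl_check : excl.all exclOK = true := by decide +kernel

theorem not_pow_card {t : ℕ × List ℕ × ℕ × ℕ} (ht : t ∈ excl) :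
    (∀ q ∈ exclWord t.1 t.2.1, q < 20) ∧ wordLy (exclWord t.1 t.2.1) ^ 5859000000 ≠ 1 := by
  have h := List.all_eq_true.1 excl_check t ht
  simp only [exclOK, force_eq, Bool.and_eq_true, List.all_eq_true, Nat.blt_eq, beq_iff_eq, Nat.beq_eq,
    Bool.not_eq_true'] at h
  obtain ⟨⟨⟨⟨hlt, hmod⟩, hn⟩, hr⟩, hp, hne⟩ := h
  refine ⟨hlt, fun e => ?_⟩
  have hrep : IsRep 111 (pword (exclWord t.1 t.2.1))
      ((phi (wordLy (exclWord t.1 t.2.1)) : GL (Fin 111) (ZMod 5)) : M111) := by
    rw [phi_ev _ hlt]; exact pword_rep _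
  have h1 := pk_rep hrep (bits7 t.2.2.1)
  rw [hn, hp] at h1
  have h2 := pk_rep hrep (bits7 t.2.2.2)
  rw [hr] at h2
  set A : M111 := ((phi (wordLy (exclWord t.1 t.2.1)) : GL (Fin 111) (ZMod 5)) : M111) with hA
  have hAn : A ^ t.2.2.1 = 1 := h1.unique pone_rep
  have hAN : A ^ 5859000000 = 1 := by rw [hA, ← Units.val_pow_eq_pow_val, ← map_pow, e, map_one, Units.val_one]
  have hAr : A ^ t.2.2.2 = 1 := by
    rw [← hmod, ← pow_eq_pow_mod _ hAn, hAN]
  rw [hAr] at h2
  rw [rep_num_unique h2 pone_rep, Nat.beq_refl] at hne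
  simp at hne

end Cfsg.Agent.LyonsOut
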