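import Cfsg.Agent.EqLemmas
import Mathlib.GroupTheory.Commutator.Basic

/-!
# Characterising subgroups of a `p`-group by commutators

* `commutator_closure_le` : a commutator subgroup from generators
* `lowerSer` : the iterated commutators of a subgroup with itself
* `CharBy` : a subgroup described by commutators with two of them, and the invariance this gives
-/

set_option autoImplicit false

namespace Cfsg.Agent.LyonsOut

open scoped commutatorElement

variable {G : Type*} [Group G]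

/-- Commutators of the elements of two subgroups from those of generators. -/
theorem commutator_closure_le {X Y : Set G} {N : Subgroup G}
    (hXN : ∀ x ∈ X, ∀ n ∈ N, x * n * x⁻¹ ∈ N ∧ x⁻¹ * n * x ∈ N)
    (hYN : ∀ y ∈ Y, ∀ n ∈ N, y * n * y⁻¹ ∈ N ∧ y⁻¹ * n * y ∈ N)
    (h : ∀ x ∈ X, ∀ y ∈ Y, ⁅x, y⁆ ∈ N) :
    ⁅Subgroup.closure X, Subgroup.closure Y⁆ ≤ N := by
  let S : Subgroup G :=
    { carrier := {g | ∀ n ∈ N, g * n * g⁻¹ ∈ N ∧ g⁻¹ * n * g ∈ N}
      one_mem' := fun n hn => by simpa using hn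
      mul_mem' := fun {a b} ha hb n hn => by
        constructor
        · simpa [mul_assoc] using (ha _ (hb n hn).1).1
        · simpa [mul_assoc] using (hb _ (ha n hn).2).2
      inv_mem' := fun {a} ha n hn => by simpa using And.symm (ha n hn) }
  have hX : Subgroup.closure X ≤ S := (Subgroup.closure_le _).2 hXN
  have hY : Subgroup.closure Y ≤ S := (Subgroup.closure_le _).2 hYN
  have h1 : ∀ x ∈ X, ∀ b ∈ Subgroup.closure Y, ⁅x, b⁆ ∈ N := by
    intro x hx b hb
    induction hb using Subgroup.closure_induction with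
    | mem b hb => exact h x hx b hb
    | one => simp
    | mul b c hb hc ihb ihc =>
      rw [show ⁅x, b * c⁆ = ⁅x, b⁆ * (b * ⁅x, c⁆ * b⁻¹) by simp only [commutatorElement_def]; group]
      exact mul_mem ihb (hY hb _ ihc).1
    | inv b hb ihb =>
      rw [show ⁅x, b⁻¹⁆ = b⁻¹ * ⁅x, b⁆⁻¹ * b by simp only [commutatorElement_def]; group]
      exact (hY hb _ (inv_mem ihb)).2
  rw [Subgroup.commutator_le]
  intro a ha b hb
  induction ha using Subgroup.closure_induction with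
  | mem a ha => exact h1 a ha b hb
  | one => simp
  | mul a c ha hc iha ihc =>
    rw [show ⁅a * c, b⁆ = (a * ⁅c, b⁆ * a⁻¹) * ⁅a, b⁆ by simp only [commutatorElement_def]; group]
    exact mul_mem (hX ha _ ihc).1 iha
  | inv a ha iha =>
    rw [show ⁅a⁻¹, b⁆ = a⁻¹ * ⁅a, b⁆⁻¹ * a by simp only [commutatorElement_def]; group]
    exact (hX ha _ (inv_mem iha)).2

/-- `U`, `⁅U, U⁆`, `⁅⁅U, U⁆, U⁆`, ... -/
def lowerSer (U : Subgroup G) : ℕ → Subgroup G
  | 0 => U
  | n + 1 => ⁅lowerSer U n, U⁆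

theorem map_lowerSer {G' : Type*} [Group G'] (f : G →* G') (U : Subgroup G) :
    ∀ n, (lowerSer U n).map f = lowerSer (U.map f) n
  | 0 => rfl
  | n + 1 => by
    show ⁅lowerSer U n, U⁆.map f = ⁅lowerSer (U.map f) n, U.map f⁆
    rw [Subgroup.map_commutator, map_lowerSer f U n]

/-- `Q` consists of the elements of `U` whose commutators with `C` lie in `N`. -/
def CharBy (U C N Q : Subgroup G) : Prop := ∀ u, u ∈ Q ↔ u ∈ U ∧ ∀ y ∈ C, ⁅u, y⁆ ∈ N

theorem CharBy.map {G' : Type*} [Group G'] {U C N Q : Subgroup G} (h : CharBy U C N Q) (f : G →* G')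
    (hf : Function.Injective f) : CharBy (U.map f) (C.map f) (N.map f) (Q.map f) := by
  intro v
  constructor
  · rintro ⟨u, hu, rfl⟩
    refine ⟨Subgroup.mem_map_of_mem f ((h u).1 hu).1, ?_⟩
    rintro _ ⟨y, hy, rfl⟩
    exact ⟨⁅u, y⁆, ((h u).1 hu).2 y hy, map_commutatorElement f u y⟩
  · rintro ⟨⟨u, hu, rfl⟩, hc⟩
    refine Subgroup.mem_map_of_mem f ((h u).2 ⟨hu, fun y hy => ?_⟩)
    obtain ⟨m, hm, e⟩ := hc (f y) (Subgroup.mem_map_of_mem f hy)
    rw [← map_commutatorElement] at e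
    exact hf e ▸ hm

/-- A subgroup so described with members of the series is fixed by what fixes `U`. -/
theorem CharBy.invariant {U Q : Subgroup G} {m : ℕ} {N : Subgroup G}
    (h : CharBy U (lowerSer U m) N Q) (α : MulAut G) (hU : U.map α.toMonoidHom = U)
    (hN : N.map α.toMonoidHom = N) : Q.map α.toMonoidHom = Q := by
  have h' := h.map α.toMonoidHom α.injective
  rw [map_lowerSer, hU, hN] at h'
  ext u
  exact (h' u).trans (h u).symm

/-- Recognition of such a subgroup: it is contained, and a transversal element to it is excluded. -/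
theorem charBy_of_gens {U C N Q : Subgroup G} {x : G} {p : ℕ} (hQU : Q ≤ U)
    (hdec : ∀ u ∈ U, ∃ q ∈ Q, ∃ i < p, u = q * x ^ i) (hQC : ∀ q ∈ Q, ∀ y ∈ C, ⁅q, y⁆ ∈ N)
    (hNU : ∀ q ∈ Q, ∀ n ∈ N, q⁻¹ * n * q ∈ N)
    (hx : ∀ i, 0 < i → i < p → ∃ y ∈ C, ⁅x ^ i, y⁆ ∉ N) : CharBy U C N Q := by
  intro u
  refine ⟨fun hu => ⟨hQU hu, hQC u hu⟩, fun ⟨hu, hc⟩ => ?_⟩
  obtain ⟨q, hq, i, hi, rfl⟩ := hdec u hu
  rcases Nat.eq_zero_or_pos i with rfl | hpos
  · simpa using hq
  obtain ⟨y, hy, hne⟩ := hx i hpos hi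
  refine absurd ?_ hne
  have h1 := hc y hy
  rw [show ⁅q * x ^ i, y⁆ = q * ⁅x ^ i, y⁆ * q⁻¹ * ⁅q, y⁆ by simp only [commutatorElement_def]; group] at h1
  have h2 : q * ⁅x ^ i, y⁆ * q⁻¹ ∈ N := by
    exact (mul_mem_cancel_right (hQC q hq y hy)).1 h1
  simpa [mul_assoc] using hNU q hq _ h2

/-- A subgroup normalised by one further generator: the closure is the product. -/
theorem closure_insert_decomp {Q : Subgroup G} {x : G} {p : ℕ} (hp : 0 < p) (hx : x ^ p ∈ Q)
    (hn : ∀ q ∈ Q, x * q * x⁻¹ ∈ Q) :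
    ∀ u ∈ Subgroup.closure (↑Q ∪ {x}), ∃ q ∈ Q, ∃ i < p, u = q * x ^ i := by
  have hn' : ∀ i : ℕ, ∀ q ∈ Q, x ^ i * q * (x ^ i)⁻¹ ∈ Q := by
    intro i
    induction i with
    | zero => simp
    | succ i ih =>
      intro q hq
      simpa [pow_succ', mul_assoc] using hn _ (ih q hq)
  have hstep : ∀ m : ℕ, ∃ q ∈ Q, ∃ i < p, x ^ m = q * x ^ i := fun m =>
    ⟨(x ^ p) ^ (m / p), pow_mem hx _, m % p, Nat.mod_lt _ hp, by rw [← pow_mul, ← pow_add, Nat.div_add_mod]⟩
  have hmul : ∀ a b, (∃ q ∈ Q, ∃ i < p, a = q * x ^ i) → (∃ q ∈ Q, ∃ i < p, b = q * x ^ i) →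
      ∃ q ∈ Q, ∃ i < p, a * b = q * x ^ i := by
    rintro _ _ ⟨q, hq, i, -, rfl⟩ ⟨r, hr, j, -, rfl⟩
    obtain ⟨s, hs, k, hk, e⟩ := hstep (i + j)
    refine ⟨q * (x ^ i * r * (x ^ i)⁻¹) * s, mul_mem (mul_mem hq (hn' i r hr)) hs, k, hk, ?_⟩
    calc q * x ^ i * (r * x ^ j) = q * (x ^ i * r * (x ^ i)⁻¹) * x ^ (i + j) := by rw [pow_add]; group
      _ = _ := by rw [e]; group
  intro u hu
  induction hu using Subgroup.closure_induction_left with
  | one => exact ⟨1, Q.one_mem, 0, hp, by simp⟩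
  | mul_left a ha b hb ih =>
    rcases ha with ha | ha
    · exact hmul a b ⟨a, ha, 0, hp, by simp⟩ ih
    · rw [Set.mem_singleton_iff] at ha
      subst ha
      refine hmul _ b ?_ ih
      simpa using hstep 1
  | inv_mul_cancel a ha b hb ih =>
    refine hmul _ b ?_ ih
    rcases ha with ha | ha
    · exact ⟨a⁻¹, inv_mem ha, 0, hp, by simp⟩
    · rw [Set.mem_singleton_iff] at ha
      subst ha
      obtain ⟨q, hq, i, hi, e⟩ := hstep (p - 1)
      refine ⟨(a ^ p)⁻¹ * q, mul_mem (inv_mem hx) hq, i, hi, ?_⟩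
      have : a ^ (p - 1) * a = a ^ p := by rw [← pow_succ]; congr 1; omega
      rw [mul_assoc, ← e, ← this]
      group

end Cfsg.Agent.LyonsOut
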