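import Cfsg.Prelude.Def_KGroupFacts
import Cfsg.Agent.Lib.OutCert.Basic
import Mathlib.GroupTheory.Sylow

/-!
# A criterion for a group to have no outer automorphism

The situation of the Lyons group with `H = G₂(5)`, `U` a Sylow 5-subgroup of `H` and of the group, `Q1`, `Q2` the
radicals of the two parabolic subgroups of `H` over `U`.

* `Frame` : the subgroups and elements, with what is asked of them
* `Frame.exists_normalizing` : every automorphism, followed by an inner one, normalises `H`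
* `Frame.card_out` : there is no outer automorphism
-/

set_option autoImplicit false

namespace Cfsg.Agent.LyonsOut

variable {G : Type} [Group G]

/-- A twisted generator of the six candidates is excluded. -/
def Excluded (H U Q2 : Subgroup G) (e m : G) : Prop :=
  (∃ g ∈ Subgroup.closure ((U : Set G) ∪ {e, m}), g ^ Nat.card H ≠ 1) ∨
    ∃ A : Subgroup G, A ≠ ⊥ ∧ A ≤ U ∧ Subgroup.normalizer (U : Set G) ≤ Subgroup.normalizer (A : Set G) ∧
      Subgroup.normalizer (Q2 : Set G) ≤ Subgroup.normalizer (A : Set G) ∧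
      m ∈ Subgroup.normalizer (A : Set G)

/-- The data. -/
structure Frame (G : Type) [Group G] where
  H : Subgroup G
  U : Subgroup G
  Q1 : Subgroup G
  Q2 : Subgroup G
  a : G
  e : G
  z : G
  L : Set G
  t : Fin 6 → G
  simpleH : IsSimpleGroup H
  U_le : U ≤ H
  U_ne : U ≠ H
  cardU : Nat.card U = 5 ^ 6
  sylow : ¬ 5 ^ 7 ∣ Nat.card G
  char1 : ∀ α : MulAut G, U.map α.toMonoidHom = U → Q1.map α.toMonoidHom = Q1
  char2 : ∀ α : MulAut G, U.map α.toMonoidHom = U → Q2.map α.toMonoidHom = Q2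
  norm2 : Subgroup.normalizer (Q2 : Set G) ≤ H
  a_norm : a ∈ Subgroup.normalizer (Q1 : Set G)
  e_norm : e ∈ Subgroup.normalizer (Q2 : Set G)
  gensH : Subgroup.closure ((U : Set G) ∪ {a, e}) = H
  z_norm : z ∈ Subgroup.normalizer (Q1 : Set G)
  move1 : ∀ m ∈ Subgroup.normalizer (Q1 : Set G), m ∈ H ∨ ∃ u ∈ U, z⁻¹ * u * m ∈ H
  norm1 : ∀ h ∈ H, h ∈ Subgroup.normalizer (Q1 : Set G) → ∃ k, (t k)⁻¹ * h ∈ Subgroup.normalizer (U : Set G)
  U_norm1 : U ≤ Subgroup.normalizer (Q1 : Set G)
  excluded : ∀ k, Excluded H U Q2 e (z * t k)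
  L_le : L ⊆ (H : Set G)
  z_not_mem : z ∉ H
  L_twist : ∀ x ∈ L, z⁻¹ * x * z ∈ H
  fixL : ∀ g : G, (∀ x ∈ L, g⁻¹ * x * g ∈ H) → g ∈ H ∨ z⁻¹ * g ∈ H
  centL : ∀ h ∈ H, (∀ x ∈ L, h * (z⁻¹ * x * z) = z⁻¹ * x * z * h) → h = 1
  gen : Subgroup.closure ((H : Set G) ∪ {z}) = ⊤

theorem map_normalizer_aut (α : MulAut G) (U : Subgroup G) :
    (Subgroup.normalizer (U : Set G)).map α.toMonoidHom =
      Subgroup.normalizer ((U.map α.toMonoidHom : Subgroup G) : Set G) :=
  Subgroup.map_equiv_normalizer_eq U α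

/-- After an inner automorphism `U` is fixed. -/
theorem exists_fix [Finite G] {U : Subgroup G} (hU : Nat.card U = 5 ^ 6) (h7 : ¬ 5 ^ 7 ∣ Nat.card G)
    (α : MulAut G) : ∃ g : G, U.map (MulAut.conj g * α).toMonoidHom = U := by
  have : Fact (Nat.Prime 5) := ⟨by norm_num⟩
  have hmap : Nat.card (U.map α.toMonoidHom) = 5 ^ 6 :=
    (Nat.card_congr (U.equivMapOfInjective α.toMonoidHom α.injective).toEquiv).symm.trans hU
  have hfac : (Nat.card G).factorization 5 = 6 := by
    have h6 : 5 ^ 6 ∣ Nat.card G := hU ▸ U.card_subgroup_dvd_card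
    have hpos : Nat.card G ≠ 0 := Nat.card_pos.ne'
    have a := (Nat.Prime.pow_dvd_iff_le_factorization (by norm_num) hpos).1 h6
    have b := mt (Nat.Prime.pow_dvd_iff_le_factorization (p := 5) (k := 7) (by norm_num) hpos).2 h7
    omega
  obtain ⟨g, hg⟩ := MulAction.exists_smul_eq G
    (Sylow.ofCard (U.map α.toMonoidHom) (by rw [hmap, hfac]) : Sylow 5 G)
    (Sylow.ofCard U (by rw [hU, hfac]) : Sylow 5 G)
  refine ⟨g, ?_⟩
  have h2 := congrArg (fun P : Sylow 5 G => (P : Subgroup G)) hg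
  simp only [Sylow.coe_subgroup_smul, Sylow.coe_ofCard, Subgroup.pointwise_smul_def] at h2
  have e : (MulAut.conj g * α).toMonoidHom = (MulAut.conj g).toMonoidHom.comp α.toMonoidHom := rfl
  rw [e, ← Subgroup.map_map]
  exact h2

namespace Frame

variable [Finite G] (F : Frame G)

/-- An automorphism fixing `U` fixes `H`. -/
theorem fixes_H (α : MulAut G) (hα : F.U.map α.toMonoidHom = F.U) : F.H.map α.toMonoidHom = F.H := by
  set K := F.H.map α.toMonoidHom with hK
  have hcard : Nat.card K = Nat.card F.H :=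
    (Nat.card_congr (F.H.equivMapOfInjective α.toMonoidHom α.injective).toEquiv).symm
  have hUK : F.U ≤ K := hα ▸ Subgroup.map_mono F.U_le
  have hN2 : (Subgroup.normalizer (F.Q2 : Set G)).map α.toMonoidHom = Subgroup.normalizer (F.Q2 : Set G) := by
    rw [map_normalizer_aut, F.char2 α hα]
  have hNU : (Subgroup.normalizer (F.U : Set G)).map α.toMonoidHom = Subgroup.normalizer (F.U : Set G) := by
    rw [map_normalizer_aut, hα]
  have hN2K : Subgroup.normalizer (F.Q2 : Set G) ≤ K := hN2 ▸ Subgroup.map_mono F.norm2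
  have hUN2 : Subgroup.normalizer (F.U : Set G) ≤ Subgroup.normalizer (F.Q2 : Set G) := by
    intro g hg
    have hc : F.U.map (MulAut.conj g).toMonoidHom = F.U := by
      ext x
      rw [Subgroup.mem_map]
      constructor
      · rintro ⟨y, hy, rfl⟩; exact (Subgroup.mem_normalizer_iff.mp hg y).1 hy
      · intro hx
        refine ⟨g⁻¹ * x * g, (Subgroup.mem_normalizer_iff.mp hg _).2 (by simpa [mul_assoc] using hx), ?_⟩
        simp [mul_assoc]
    rw [Subgroup.mem_normalizer_iff]
    intro x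
    have h2 := F.char2 (MulAut.conj g) hc
    constructor
    · intro hx; rw [← h2]; exact Subgroup.mem_map_of_mem (MulAut.conj g).toMonoidHom hx
    · intro hx
      rw [← h2] at hx
      obtain ⟨y, hy, e⟩ := hx
      exact (MulAut.conj g).injective e ▸ hy
  have haH : F.a ∈ F.H := F.gensH ▸ Subgroup.subset_closure (Or.inr (Or.inl rfl))
  have heH : F.e ∈ F.H := F.gensH ▸ Subgroup.subset_closure (Or.inr (Or.inr rfl))
  have hm : α F.a ∈ Subgroup.normalizer (F.Q1 : Set G) := by
    have h := Subgroup.mem_map_of_mem α.toMonoidHom F.a_norm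
    rwa [map_normalizer_aut, F.char1 α hα] at h
  have hgen : K = Subgroup.closure ((F.U : Set G) ∪ {α F.a, α F.e}) := by
    have hUim : α.toMonoidHom '' (F.U : Set G) = (F.U : Set G) := by
      rw [← Subgroup.coe_map, hα]
    rw [hK, ← F.gensH, MonoidHom.map_closure, Set.image_union, hUim, Set.image_insert_eq, Set.image_singleton]
    rfl
  rcases F.move1 _ hm with h | ⟨u, hu, h⟩
  · refine Subgroup.eq_of_le_of_card_ge ?_ hcard.ge
    rw [hgen, Subgroup.closure_le]
    rintro x (hx | rfl | rfl)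
    · exact F.U_le hx
    · exact h
    · exact F.norm2 (hN2 ▸ Subgroup.mem_map_of_mem α.toMonoidHom F.e_norm)
  exfalso
  obtain ⟨k, hk⟩ := F.norm1 _ h
    (mul_mem (mul_mem (inv_mem F.z_norm) (F.U_norm1 hu)) hm)
  set n := (F.t k)⁻¹ * (F.z⁻¹ * u * α F.a) with hn
  have e1 : F.z * F.t k = u * α F.a * n⁻¹ := by simp [hn, mul_assoc]
  rcases F.excluded k with ⟨g, hg, hne⟩ | ⟨A, hA0, hAU, hNA, hN2A, hmA⟩
  · have hgK : g ∈ K := by
      refine (Subgroup.closure_le K).2 ?_ hg
      rintro x (hx | rfl | rfl)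
      · exact hUK hx
      · exact hN2K F.e_norm
      · rw [SetLike.mem_coe, e1]
        exact mul_mem (mul_mem (hUK hu) (Subgroup.mem_map_of_mem α.toMonoidHom haH))
          (inv_mem (hN2K (hUN2 hk)))
    exact hne (congrArg Subtype.val (hcard ▸ pow_card_eq_one' : (⟨g, hgK⟩ : K) ^ Nat.card F.H = 1))
  · have := F.simpleH
    have : IsSimpleGroup K := (F.H.equivMapOfInjective α.toMonoidHom α.injective).symm.isSimpleGroup
    have hma : α F.a ∈ Subgroup.normalizer (A : Set G) := by
      have e2 : α F.a = u⁻¹ * (F.z * F.t k) * n := by rw [e1]; group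
      rw [e2]
      exact mul_mem (mul_mem (inv_mem (hNA (Subgroup.le_normalizer hu))) hmA) (hNA hk)
    have hKA : K ≤ Subgroup.normalizer (A : Set G) := by
      rw [hgen, Subgroup.closure_le]
      rintro x (hx | rfl | rfl)
      · exact hNA (Subgroup.le_normalizer hx)
      · exact hma
      · exact hN2A (hN2 ▸ Subgroup.mem_map_of_mem α.toMonoidHom F.e_norm)
    have := (Subgroup.normal_subgroupOf_iff_le_normalizer (hAU.trans hUK)).2 hKA
    rcases (inferInstance : (A.subgroupOf K).Normal).eq_bot_or_eq_top with h0 | h1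
    · rw [Subgroup.subgroupOf_eq_bot, disjoint_iff, inf_eq_left.2 (hAU.trans hUK)] at h0
      exact hA0 h0
    · rw [Subgroup.subgroupOf_eq_top] at h1
      refine F.U_ne (Subgroup.eq_of_le_of_card_ge F.U_le ?_)
      rw [← hcard]
      exact Subgroup.card_le_of_le (h1.trans hAU)

/-- There is no outer automorphism, if `H` has none. -/
theorem card_out (hH : ∀ β : MulAut F.H, ∃ h : F.H, β = MulAut.conj h) : Nat.card (Cfsg.Out G) = 1 := by
  refine OutCert.card_out_eq_one _ F.gen fun α => ?_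
  obtain ⟨g, hg⟩ := exists_fix F.cardU F.sylow α
  have hK := F.fixes_H (MulAut.conj g * α) hg
  let f : F.H ≃* F.H :=
    (F.H.equivMapOfInjective (MulAut.conj g * α).toMonoidHom (MulAut.conj g * α).injective).trans
      (MulEquiv.subgroupCongr hK)
  obtain ⟨h, hh⟩ := hH f
  set g' := (h : G)⁻¹ * g with hg'
  have hfixH : ∀ x ∈ F.H, g' * α x * g'⁻¹ = x := by
    intro x hx
    have e1 : ((f ⟨x, hx⟩ : F.H) : G) = g * α x * g⁻¹ := rfl
    rw [hh] at e1
    rw [hg', mul_inv_rev, inv_inv]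
    calc (h : G)⁻¹ * g * α x * (g⁻¹ * h) = (h : G)⁻¹ * (g * α x * g⁻¹) * h := by group
      _ = x := by rw [← e1]; simp [mul_assoc]
  refine ⟨g', ?_⟩
  rintro s (hs | rfl)
  · exact hfixH s hs
  set y := g' * α F.z * g'⁻¹ with hy
  have hconj : ∀ x, g' * α (F.z⁻¹ * x * F.z) * g'⁻¹ = y⁻¹ * (g' * α x * g'⁻¹) * y := fun x => by
    rw [hy, map_mul, map_mul, map_inv]; group
  have hxL : ∀ x ∈ F.L, y⁻¹ * x * y = F.z⁻¹ * x * F.z := fun x hx => by
    have h2 := hconj x
    rw [hfixH _ (F.L_twist x hx), hfixH x (F.L_le hx)] at h2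
    exact h2.symm
  rcases F.fixL y (fun x hx => hxL x hx ▸ F.L_twist x hx) with hyH | hyH
  · exfalso
    refine F.z_not_mem ?_
    have h3 := hfixH y hyH
    have : F.z = y := by
      apply α.injective
      have : g' * α y * g'⁻¹ = g' * α F.z * g'⁻¹ := h3
      exact (mul_left_cancel (mul_right_cancel this)).symm
    rw [this]; exact hyH
  · have h1 : F.z⁻¹ * y = 1 := by
      refine F.centL _ hyH fun x hx => ?_
      conv_lhs => rw [← hxL x hx]
      group
    exact (inv_mul_eq_one.1 h1).symm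

end Frame

end Cfsg.Agent.LyonsOut
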