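import Cfsg.Agent.EqLemmas

/-!
Words for the proof that the Lyons group has no outer automorphism (generated with a base of four points of the table).

* letters `a a' b b' c c' c2 c2' c3 c3' c4 c4' c5 c5' e e' d d'` are `0..17`, `z` is `18`
-/

set_option autoImplicit false
set_option maxRecDepth 100000

namespace Cfsg.Agent.LyonsOut

/-- The Sylow subgroup, in the order of a central series. -/
def uGens : List (List ℕ) :=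
  [[12], [4], [8], [6], [10], [2]]

/-- The first radical. -/
def q1Gens : List (List ℕ) :=
  [[4], [6], [8], [10], [12]]

/-- The second radical. -/
def q2Gens : List (List ℕ) :=
  [[4], [8], [10], [2]]

/-- Conjugates, and a set invariant under the earlier generators with a point leaving it. -/
def series : List (List (List ℕ) × ℕ × List ℕ) :=
  [([], 4, [4]), ([[0]], 3, [3]), ([[0], [0, 0, 1]], 62, [62]), ([[0], [0, 0, 0, 0, 1], [0, 0, 0, 0, 2]], 3, [3, 6, 9, 13, 14]), ([[0], [0, 0, 0, 1], [0, 2], [3]], 4, [4, 19, 20, 21, 22, 23, 24, 27, 28, 112, 113, 114, 115, 116, 117, 120, 121, 125, 126, 127, 128, 129, 130, 133, 134, 138, 139, 140, 141, 144, 145, 151, 152, 153, 154, 157, 158, 163, 164, 165, 166, 167, 170, 171, 178, 179, 180, 181, 182, 185, 186, 212, 213, 881, 882, 883, 884, 887, 888, 892, 893, 894, 895, 898, 899, 903, 906,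 907, 908, 909, 912, 916, 919, 920, 921, 922, 925, 932, 933, 934, 935, 936, 939, 940, 947, 948, 949, 950, 951, 954, 955, 985, 986, 987, 991, 992, 993, 1036, 1037, 1038, 1039, 1042, 1043, 1045, 1046, 1047, 1048, 1051, 1052, 1054, 1057, 1058, 1059, 1060, 1063, 1065, 1068, 1069, 1070, 1071, 1074, 1079, 1080, 1081, 1082, 1083, 1086, 1087, 1092, 1093, 1094, 1095, 1096, 1099, 1100, 1124, 1125, 1126, 1128, 1129, 1130, 1145, 1146, 1177, 1178, 1181, 1185, 1186, 1189, 1196, 1197, 1198, 1201, 1208, 1209, 1210, 1211, 1214, 1243, 1247, 1254, 1301, 1315, 1316, 1319, 1321, 1322, 1325, 1330, 1331, 1332, 1333, 1336, 1341, 1342, 1343, 1346, 1370, 1371, 1373, 1374, 1410, 1430, 1431, 1432, 1435, 1440, 1441, 1444, 1450, 1451, 1453, 1460, 1461, 1462, 1463, 1465, 1470, 1471, 1472, 1473, 1476, 1477, 1580, 1581, 1584, 1587, 1588, 1589, 1592, 1596, 1597,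 1598, 1599, 1601, 1606, 1607, 1608, 1610, 1613, 1614, 1615, 1618, 1619, 1660, 1795, 2775, 2906, 4429, 4430, 4974, 4975, 5196, 5199, 5200, 5284, 5285, 5419, 5504, 5654, 5655, 5718, 5719, 5759, 5760, 6049, 6050, 6051, 6052, 6053, 6055, 6059, 6060, 6061, 6062, 6063, 6066, 6073, 6074, 6075, 6076, 6079, 6086, 6087, 6088, 6089, 6092, 6139, 6140, 6141, 6144, 6148, 6149, 6152, 6155, 6156, 6157, 6159, 6165, 6166, 6167, 6168, 6171, 6216, 6219, 6220, 6221, 6224, 6244, 6245, 6246, 6254, 6255, 6257, 6262, 6263, 6269, 6270, 6271, 6293, 6320, 6323, 6324, 6327, 6354, 6355, 6356, 6357, 6365, 6366, 6367, 6370, 6377, 6378, 6379, 6388, 6389, 6390, 6411, 6459, 6483, 6484, 6488, 6495, 6496, 6497, 6504, 6505, 6510, 6511, 6513, 6578, 6584, 6593, 6597, 6598, 6605, 6606, 6607, 6612, 6613, 6615, 6616, 6617, 6718, 6719, 6749, 6824, 6832, 6868, 6874, 6954,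 6955, 7061, 7154, 7155, 7159, 7160, 7161, 7167, 7168, 7174, 7175, 7213, 7214, 7218, 7219, 7225, 7226, 7230, 7231, 7250, 7251, 7252, 7276, 7277, 7283, 7287, 7288, 7289, 7295, 7296, 7322, 7323, 7342, 7343, 7349, 7351, 7355, 7356, 7357, 7358, 7361, 7362, 7417, 7424, 7425, 7430, 7431, 7432, 7433, 7434, 7483, 7490, 7494, 7495, 7496, 7499, 7500, 7502, 7521, 7608, 7619, 7715, 7716, 7717, 7720, 7722, 7723, 7724, 7727, 7979, 7980, 7987, 8035, 8036, 8108, 8109, 8111, 8120, 8165, 8175, 8185, 8191, 8219, 8226, 8233, 8307, 8465, 8466, 8814, 8820, 8821, 8846, 8847, 8851, 8881, 8894, 8898, 8902, 8939, 8940, 8942, 8945, 8947, 8969, 8975, 9096, 9117, 9121, 9190, 9248, 9258, 9264, 9277, 9399, 9438, 9451, 9452, 9453, 9486, 9546, 9554, 9593, 9594, 9596, 9597, 9629, 9896, 9897, 10034, 10035, 10070, 10076, 10151, 10251, 10263, 10269, 10270, 10271, 10335,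 10617, 10647, 10781, 10782, 10808, 10818, 10829, 10830, 10831, 10832, 10988, 11024, 11034, 11035, 11038, 11395, 11527, 11925, 12146, 13140, 13223, 13300, 13343, 13493, 13651, 13712, 13753, 13975, 13977, 13980, 14215, 14266, 14267, 14333, 14972, 15314, 15316, 15566, 16047, 16235, 16507, 16521, 16650, 16664, 16666, 16669, 16717, 16718, 16724, 16769, 16775, 16776, 16988, 17016, 17017, 17110, 17132, 17278, 17280, 17353, 17367, 17402, 17417, 17423, 17438, 17720, 17721, 17722, 17723, 17724, 17725, 17788, 17789, 17790, 17791, 17824, 17825, 17827, 17828, 17829, 17830, 17831, 17948, 17967, 18019, 18023, 18029, 18040, 18041, 18045, 18052, 18079, 18080, 18097, 18100, 18101, 18116, 18117, 18122, 18158, 18167, 18170, 18174, 18180, 18196, 18216, 18242, 18243, 18259, 18319, 18342, 18362, 18363, 18365, 18369, 18371, 18474, 18485, 18548, 18676,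 18795, 18797, 18800, 18847, 18849, 18851, 18856, 18898, 18972, 18979, 19092, 19099, 19119, 19121]), ([[0], [4], [1], [1, 1, 1, 2, 4, 4, 2, 3], [1, 1, 2, 4, 4, 4]], 0, [0])]

/-- Bounds for the iterated commutators. -/
def bounds : List (List (List ℕ)) :=
  [[[4, 8, 5, 9], [4, 2, 5, 3], [8, 2, 9, 3], [6, 2, 7, 3]], [[4, 2, 5, 2, 4, 3, 5, 3], [6, 2, 7, 2, 6, 3, 7, 3], [4, 2, 5, 3, 4, 2, 4, 3, 5, 5]], [[6, 2, 7, 2, 6, 3, 7, 2, 6, 2, 7, 3, 6, 3, 7, 3], [4, 2, 5, 2, 4, 3, 5, 3, 6, 2, 4, 2, 5, 3, 4, 3, 5, 7]], [[12]]]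

/-- Commutators in the next bound. -/
def commB : List (List (List (List ℕ))) :=
  [[[[], [], [], [], [], []], [[], [], [0], [0, 0], [0, 0, 0, 0], [1]], [[], [0, 0, 0, 0], [], [0, 0], [0, 0, 0], [2]], [[], [0, 0, 0], [0, 0, 0], [], [], [3]], [[], [0], [0, 0], [], [], [1, 1, 2, 2, 2, 2]], [[], [1, 1, 1, 1], [2, 2, 2, 2], [3, 3, 3, 3], [1, 1, 1, 2], []]], [[[], [], [], [], [], []], [[], [2], [2], [2, 2, 2], [2], [0]], [[], [2], [2], [], [2], [0]], [[], [], [2, 2], [], [2, 2, 2], [1]]], [[[], [], [], [1], [], []], [[], [1, 1, 1, 1], [1, 1, 1, 1], [1, 1], [1, 1, 1, 1], [0]], [[], [], [], [], [], []]], [[[], [], [], [0, 0], [], []], [[], [], [], [], [], []]]]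

/-- Conjugates of the bounds. -/
def normB : List (List (List (List ℕ))) :=
  [[[[0], [1], [2], [3]], [[0], [0, 1], [0, 2], [3]], [[0], [0, 1], [0, 2], [0, 0, 3]], [[0], [0, 0, 0, 1], [2], [3]], [[0], [0, 1], [0, 2], [0, 0, 0, 3]], [[0], [1, 1, 2, 2, 2, 2], [1], [0, 3, 1, 1]]], [[[0], [1], [2]], [[0], [1, 2, 2], [2]], [[0], [1, 2, 2], [2]], [[0, 2, 2, 2], [1, 2], [2]], [[0], [1, 2, 2], [2]], [[0], [0, 0, 1], [2]]], [[[0], [1]], [[0], [1]], [[0], [1]], [[0, 1, 1], [1]], [[0], [1]], [[0], [1]]], [[[0]], [[0]], [[0]], [[0]], [[0]], [[0]]]]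

/-- The bounds inside the Sylow subgroup. -/
def bInU : List (List (List ℕ)) :=
  [[[0, 0, 0], [1, 4, 4, 4, 4], [2, 1, 1, 1, 1], [1, 1, 2, 2, 4, 4, 2, 4]], [[0, 1, 1, 2, 1, 4], [1, 1, 1, 4, 4], [0, 0]], [[1, 1, 1, 1, 2, 2, 4, 4, 2, 4], [0, 0, 0, 0]], [[0]]]

/-- Commutators of the first radical with the second bound. -/
def q1comm : List (List (List ℕ)) :=
  [[[], [0, 0, 0, 0], []], [[0], [0, 0], []], [[], [0, 0, 0, 0], []], [[], [0, 0, 0, 0], []], [[], [], []]]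

/-- An iterated commutator with the power giving the centre. -/
def centreWit : List ℕ × ℕ :=
  ([3, 5, 5, 5, 3], 3)

/-- Witnesses outside the first radical. -/
def witQ1 : List (List ℕ × ℕ) :=
  [([3, 5, 5], 11), ([3, 5, 5], 11), ([3, 5, 5], 11), ([3, 5, 5], 11)]

/-- Witnesses outside the second radical. -/
def witQ2 : List (List ℕ × ℕ) :=
  [([3, 5, 5, 5], 4), ([3, 5, 5, 5], 4), ([3, 5, 5, 5], 4), ([3, 5, 5, 5], 4)]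

/-- Conjugates of the second radical. -/
def c2Q2 : List (List ℕ) :=
  [[1, 1, 0, 1, 1, 1], [0, 0, 0, 1, 0, 0], [2], [0, 0, 0, 0, 1, 1, 0, 3, 2]]

/-- Conjugates of a radical. -/
def bQ1 : List (List ℕ) :=
  [[3], [0, 0, 0, 1, 3, 3, 2, 2], [0], [0, 0, 2, 3, 3, 3], [4]]

/-- Conjugates of a radical. -/
def aQ1 : List (List ℕ) :=
  [[1, 1], [0], [0, 3, 0, 2, 3], [0, 0, 0, 0, 1, 1, 1, 2, 2, 3, 3, 3, 2, 3], [4, 4, 4]]

/-- Conjugates of a radical. -/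
def eQ2 : List (List ℕ) :=
  [[0, 2, 0, 1, 3, 3, 2], [1, 3, 2, 1, 1, 3, 2], [0, 1, 1, 0, 1, 3, 3], [0, 1, 1, 1, 1, 2, 2, 2]]

/-- The second radical inside the Sylow subgroup. -/
def q2InU : List (List ℕ) :=
  [[1], [2], [4], [5]]

/-- The generator d. -/
def dWord : List ℕ :=
  [0, 2, 2, 1, 3, 5, 11, 13, 0, 14, 0, 14, 0, 7, 2, 14]

/-- The points fixed by the first radical. -/
def fibre : List ℕ :=
  [0, 1, 2, 5, 8]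

/-- Elements of the Sylow subgroup sending the fibre to the first point. -/
def toZero : List (ℕ × List ℕ) :=
  [(0, []), (1, [5, 5, 5, 5]), (2, [5]), (5, [5, 5, 5]), (8, [5, 5])]

/-- Representatives modulo the normaliser of the Sylow subgroup. -/
def reps : List (List ℕ) :=
  [[], [0], [2, 0, 3], [2, 2, 0, 3, 3], [2, 0, 3, 0], [2, 0, 2, 0, 3, 3]]

/-- Generators of the stabiliser of the first point. -/
def stabW : List (List ℕ) :=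
  [[4], [6], [8], [10], [12], [0], [2, 0, 3], [2, 2, 0, 3, 3]]

/-- Their twists by z. -/
def swW : List (List ℕ) :=
  [[1, 3, 1, 2, 5, 3, 0, 5, 2, 0], [3, 3, 0, 4, 1, 2, 4, 2], [1, 3, 1, 4, 0, 2, 0], [3, 1, 2, 4, 3, 0, 2], [2, 2, 1, 3, 4, 2, 0, 4, 3, 3, 5], [1, 1, 1], [2, 1, 3, 1, 1], [0, 2, 2, 0, 3, 3, 1]]

/-- The first radical from its twists. -/
def swBackQ1 : List (List ℕ) :=
  [[0, 0, 0, 0, 2, 2, 3, 3, 2, 3], [0, 1, 1, 1, 1, 2, 2, 2, 3, 2], [1, 1, 3, 3, 3, 3], [0, 0, 1, 1, 1, 2, 3, 3], [4, 4, 4]]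

/-- The twists in the first radical. -/
def swInQ1 : List (List ℕ) :=
  [[0, 0, 2, 2, 2, 3, 3, 3, 2, 3], [0, 0, 0, 1, 1, 3, 2, 3, 3, 2], [1, 3, 3], [0, 1, 1, 1, 1, 2, 2, 2, 3], [4, 4]]

/-- The action of the generators on the representatives. -/
def trans : List (List (ℕ × List (List ℕ))) :=
  [[(0, [[0], [1], [0, 0, 0, 2], [0, 3], [0, 0, 4], [1, 4, 4, 4, 4, 5]]), (1, [[0], [0, 0, 0, 0, 1], [0, 0, 0, 0, 2], [3], [4], [3, 5, 3, 3, 3, 3]]), (2, [[0], [0, 0, 0, 0, 1], [0, 0, 0, 0, 2], [0, 3], [0, 0, 0, 0, 4], [1, 1, 5, 4, 1, 4]]), (3, [[0], [0, 0, 0, 0, 1], [2], [0, 0, 0, 3], [0, 0, 0, 0, 4], [0, 0, 0, 0, 2, 5, 4, 4]]), (4, [[0], [0, 0, 0, 0, 1], [2], [0, 0, 0, 3], [0, 0, 0, 0, 4], [0, 0, 0, 0, 2, 5, 4, 4]]), (5, [[0], [0, 1], [0, 2], [3], [4], [3, 3, 3, 3, 5, 3]])], [(0, [[0], [0, 0, 0, 0, 1], [0, 0, 0, 0, 2], [3], [4], [3, 5, 3,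 3, 3, 3]]), (1, [[0], [1], [0, 0, 0, 0, 2], [0, 0, 0, 3], [0, 4], [1, 1, 1, 4, 4, 5]]), (2, [[0], [0, 1], [0, 0, 0, 2], [0, 3], [4], [1, 1, 1, 2, 2, 1, 2, 2, 5]]), (3, [[0], [0, 0, 0, 1], [0, 0, 0, 2], [0, 0, 3], [0, 0, 0, 4], [0, 1, 2, 5, 4, 4, 4]]), (4, [[0], [0, 0, 0, 0, 1], [2], [0, 0, 3], [0, 0, 4], [0, 0, 4, 5, 4]]), (5, [[0], [0, 0, 0, 1], [2], [0, 0, 0, 0, 3], [0, 0, 0, 0, 4], [1, 2, 1, 5, 4]])], [(0, [[0], [0, 0, 1], [2], [0, 3], [0, 0, 0, 0, 4], [2, 1, 1, 1, 1, 5]]), (1, [[0], [0, 0, 0, 0, 1], [0, 0, 0, 0, 2], [0, 0, 0, 0, 3], [0, 0, 0, 0, 4], [1, 1, 5, 4, 1, 4]]), (2, [[0], [0, 0, 0, 0, 1], [0, 0, 0, 0, 2], [0, 0, 0, 3], [4], [3, 5, 3, 3, 3, 3]]), (3, [[0], [1], [2], [0, 0, 0, 3], [0, 0, 0, 0, 4], [1, 1, 2, 4, 2, 2, 5, 4]]), (4, [[0], [0, 0, 1], [0, 0, 0, 0, 2], [0, 0, 0, 3], [0, 0, 0, 0, 4], [0, 0, 1, 4, 5]]), (5, [[0],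 [1], [0, 2], [0, 0, 3], [0, 0, 0, 4], [1, 1, 2, 2, 5, 4, 4, 1]])], [(0, [[0], [0, 0, 0, 1], [0, 2], [3], [4], [2, 2, 2, 1, 5, 4]]), (1, [[0], [1], [0, 0, 0, 0, 2], [0, 3], [4], [1, 1, 1, 2, 2, 5, 4, 4]]), (2, [[0], [0, 0, 0, 0, 1], [2], [3], [0, 0, 0, 0, 4], [0, 0, 0, 0, 2, 5, 4, 4]]), (3, [[0], [0, 0, 0, 0, 1], [0, 0, 0, 0, 2], [0, 0, 0, 3], [0, 0, 0, 0, 4], [1, 1, 5, 4, 1, 4]]), (4, [[0], [1], [0, 0, 2], [0, 0, 0, 3], [0, 0, 0, 0, 4], [4, 2, 4, 5]]), (5, [[0], [0, 0, 0, 1], [0, 2], [0, 0, 0, 3], [0, 4], [1, 1, 1, 4, 4, 4, 4, 1, 5]])], [(0, [[0], [1], [2], [3], [4], [5]]), (1, [[0], [1], [2], [3], [4], [5]]), (2, [[0], [1], [2], [3], [4], [5]]), (3, [[0], [1], [2], [3], [4], [5]]), (4, [[0], [1], [2], [3], [4], [5]]), (5, [[0], [1], [2], [3], [4], [5]])], [(1, [[0], [1], [2], [3], [4], [5]]), (0, [[0, 0, 0, 0], [1, 1], [2, 2],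 [3, 3], [4, 4], [5]]), (3, [[0, 0, 0], [1, 1], [1, 1, 1, 1, 4, 4, 2], [5, 3, 4, 4, 5, 5, 5, 5], [1, 1, 1, 1, 2, 2, 4], [5, 5]]), (2, [[0, 0, 0], [1], [1, 1, 2, 4, 4, 4], [1, 1, 1, 1, 3, 2, 3, 2], [1, 1, 4, 2, 2, 2], [5, 5, 5]]), (5, [[0, 0, 0], [1, 1], [1, 1, 1, 1, 4, 4, 2], [5, 3, 4, 4, 5, 5, 5, 5], [1, 1, 1, 1, 2, 2, 4], [5, 5]]), (4, [[0, 0, 0], [1], [1, 1, 2, 4, 4, 4], [1, 1, 1, 1, 3, 2, 3, 2], [1, 1, 4, 2, 2, 2], [5, 5, 5]])], [(2, [[0], [1], [2], [3], [4], [5]]), (4, [[0], [1], [2], [3], [4], [5]]), (0, [[0, 0, 0, 0], [1, 1], [2, 2], [3, 3], [4, 4], [5]]), (5, [[0], [1], [2], [3], [4], [5]]), (1, [[0, 0, 0, 0], [1, 1], [2, 2], [3, 3], [4, 4], [5]]), (3, [[0, 0, 0, 0], [1, 1], [2, 2], [3, 3], [4, 4], [5]])], [(3, [[0], [1], [2], [3], [4], [5]]), (2, [[0, 0, 0], [1, 1, 1, 1], [1, 1, 1, 2, 2, 2, 2, 4, 4], [1, 2, 2, 3, 3, 3,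 2], [1, 1, 1, 2, 4, 4, 4, 2, 4], [5, 5, 5]]), (1, [[0, 0, 0], [1, 1, 1], [1, 2, 2, 2, 4, 4, 2, 4], [1, 1, 1, 2, 3, 3, 3, 3, 4, 4], [1, 2, 2, 2, 4, 4, 4, 4], [5, 5]]), (0, [[0, 0, 0, 0], [1, 1], [2, 2], [3, 3], [4, 4], [5]]), (5, [[0, 0, 0], [1, 1, 1, 1], [1, 1, 1, 2, 2, 2, 2, 4, 4], [1, 2, 2, 3, 3, 3, 2], [1, 1, 1, 2, 4, 4, 4, 2, 4], [5, 5, 5]]), (4, [[0, 0, 0], [1, 1, 1], [1, 2, 2, 2, 4, 4, 2, 4], [1, 1, 1, 2, 3, 3, 3, 3, 4, 4], [1, 2, 2, 2, 4, 4, 4, 4], [5, 5]])], [(0, [[0], [1], [2], [3], [4], [5]]), (1, [[0], [1], [2], [3], [4], [5]]), (2, [[0], [1], [2], [3], [4], [5]]), (3, [[0], [1], [2], [3], [4], [5]]), (4, [[0], [1], [2], [3], [4], [5]]), (5, [[0], [1], [2], [3], [4], [5]])], [(0, [[0], [1], [0, 0, 0, 2], [0, 3], [0, 0, 4], [1, 4, 4, 4, 4, 5]]), (1, [[0], [0, 0, 0, 0, 1], [0, 0, 0, 0, 2], [3], [4], [3, 5, 3, 3, 3, 3]]),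 (2, [[0], [0, 0, 0, 0, 1], [0, 0, 0, 0, 2], [0, 3], [0, 0, 0, 0, 4], [1, 1, 5, 4, 1, 4]]), (3, [[0], [0, 0, 0, 0, 1], [2], [0, 0, 0, 3], [0, 0, 0, 0, 4], [0, 0, 0, 0, 2, 5, 4, 4]]), (4, [[0], [0, 0, 0, 0, 1], [2], [0, 0, 0, 3], [0, 0, 0, 0, 4], [0, 0, 0, 0, 2, 5, 4, 4]]), (5, [[0], [0, 1], [0, 2], [3], [4], [3, 3, 3, 3, 5, 3]])], [(0, [[0], [0, 0, 1], [2], [0, 3], [0, 0, 0, 0, 4], [2, 1, 1, 1, 1, 5]]), (1, [[0], [0, 0, 0, 0, 1], [0, 0, 0, 0, 2], [0, 0, 0, 0, 3], [0, 0, 0, 0, 4], [1, 1, 5, 4, 1, 4]]), (2, [[0], [0, 0, 0, 0, 1], [0, 0, 0, 0, 2], [0, 0, 0, 3], [4], [3, 5, 3, 3, 3, 3]]), (3, [[0], [1], [2], [0, 0, 0, 3], [0, 0, 0, 0, 4], [1, 1, 2, 4, 2, 2, 5, 4]]), (4, [[0], [0, 0, 1], [0, 0, 0, 0, 2], [0, 0, 0, 3], [0, 0, 0, 0, 4], [0, 0, 1, 4, 5]]), (5, [[0], [1], [0, 2], [0, 0, 3], [0, 0, 0, 4], [1, 1, 2, 2, 5, 4, 4, 1]])], [(0,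 [[0], [0, 0, 0, 0, 1], [0, 0, 0, 0, 2], [3], [4], [3, 5, 3, 3, 3, 3]]), (1, [[0], [1], [0, 0, 0, 0, 2], [0, 0, 0, 3], [0, 4], [1, 1, 1, 4, 4, 5]]), (2, [[0], [0, 1], [0, 0, 0, 2], [0, 3], [4], [1, 1, 1, 2, 2, 1, 2, 2, 5]]), (3, [[0], [0, 0, 0, 1], [0, 0, 0, 2], [0, 0, 3], [0, 0, 0, 4], [0, 1, 2, 5, 4, 4, 4]]), (4, [[0], [0, 0, 0, 0, 1], [2], [0, 0, 3], [0, 0, 4], [0, 0, 4, 5, 4]]), (5, [[0], [0, 0, 0, 1], [2], [0, 0, 0, 0, 3], [0, 0, 0, 0, 4], [1, 2, 1, 5, 4]])], [(0, [[0], [0, 0, 0, 1], [0, 2], [3], [4], [2, 2, 2, 1, 5, 4]]), (1, [[0], [1], [0, 0, 0, 0, 2], [0, 3], [4], [1, 1, 1, 2, 2, 5, 4, 4]]), (2, [[0], [0, 0, 0, 0, 1], [2], [3], [0, 0, 0, 0, 4], [0, 0, 0, 0, 2, 5, 4, 4]]), (3, [[0], [0, 0, 0, 0, 1], [0, 0, 0, 0, 2], [0, 0, 0, 3], [0, 0, 0, 0, 4], [1, 1, 5, 4, 1, 4]]), (4, [[0], [1], [0, 0, 2], [0, 0, 0, 3], [0, 0, 0, 0, 4],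 [4, 2, 4, 5]]), (5, [[0], [0, 0, 0, 1], [0, 2], [0, 0, 0, 3], [0, 4], [1, 1, 1, 4, 4, 4, 4, 1, 5]])], [(0, [[0], [4], [1], [5, 3, 5, 5, 5, 5], [1, 1, 2, 4, 4, 4], [5]]), (2, [[0], [4], [1], [5, 3, 5, 5, 5, 5], [1, 1, 2, 4, 4, 4], [5]]), (3, [[0], [4], [1], [5, 3, 5, 5, 5, 5], [1, 1, 2, 4, 4, 4], [5]]), (5, [[0, 0], [4, 4, 4], [1, 2, 2, 2, 4, 4, 2, 4], [4, 2, 5, 5, 5, 5, 3, 5], [2, 2, 2], [5, 5, 5]]), (1, [[0, 0, 0], [1, 2, 2, 2, 4, 4, 4, 4], [1, 1, 1], [3, 3, 3, 1, 3, 4], [2, 2, 2], [5, 5]]), (4, [[0], [1, 1, 1, 2, 2, 2, 2, 4, 4], [4, 4, 4, 4], [5, 5, 3, 3, 3, 3, 5, 5, 5], [1, 1, 1, 2, 4, 4, 4, 2, 4], [5]])]]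

/-- The stabiliser of the first point from its twists. -/
def stabBack : List (List ℕ) :=
  [[5, 7, 5, 3, 1, 1, 7], [5, 7, 3, 5, 0, 7], [3, 3, 3, 3, 1, 1], [5, 7, 3, 5, 7, 2], [4, 4, 4], [5, 5, 5, 5, 5], [6, 5, 5, 5, 5], [7, 5, 5, 5, 5]]

/-- Conjugates of the second bound. -/
def aConj : List (List ℕ × List ℕ) :=
  [([2, 3, 3, 3, 2], [0, 0, 1, 1, 1, 2]), ([2, 2, 2, 2, 0], [0, 0, 0, 0, 1, 1, 1, 2, 2, 2]), ([4, 4, 4], [2, 2, 2, 2])]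

/-- Excluded candidates: representative, word in the candidate, `e` and the Sylow generators, order, exponent modulo that. -/
def excl : List (ℕ × List ℕ × ℕ × ℕ) :=
  [(0, [0, 6, 1, 7], 67, 13), (1, [0, 1, 7, 3], 37, 13), (3, [0, 1], 67, 13), (4, [0, 7, 7, 1], 22, 18), (5, [0, 4, 1, 7], 33, 18)]

/-- The second bound from commutators of the second radical. -/
def aFromQ2 : List (List ℕ) :=
  [[3, 14], [6, 12, 12], [2]]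

/-- Commutators of the second radical in the second bound. -/
def q2InA : List (List ℕ) :=
  [[], [2, 2, 2, 2], [2], [1, 1, 2], [2], [], [2, 2], [0, 1, 1, 2], [2, 2, 2, 2], [2, 2, 2], [], [0, 0, 0, 0, 1, 1, 2], [1, 1, 1, 2, 2, 2, 2], [0, 0, 0, 0, 1, 1, 1, 2, 2, 2, 2], [0, 1, 1, 1, 2, 2, 2, 2], []]

end Cfsg.Agent.LyonsOut
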