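import Cfsg.Agent.Lib.LyonsOut.Facts2
import Cfsg.Agent.Lib.Lyons.Subst
import Cfsg.Agent.Lib.Lyons.GenNeOne

/-!
# The subgroup of the Lyons group, its twist by `z`, and fixed cosets

* `φ`, `range_φ`, `φ_injective`, `φ_kw`
* `twist` : `z⁻¹ (ph) z = sw`
* `DeltaData`, `stab_z`, `fixed_coset` : what is asked of the suborbits, and the cosets fixed by 5-subgroups
-/

set_option autoImplicit false
set_option maxRecDepth 100000

open Cfsg

namespace Cfsg.Agent.LyonsOut

open Cfsg.Agent.CosetEnum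
open Cfsg.Agent.StabCert (wordEl wordEl_append)
open Cfsg.Agent.HNPresented (winv sub' wordEl_winv)
open Lyons (elL elL_inv)

/-- The map of `G₂(5)` into Ly. -/
noncomputable def φ : K →* Spor.Ly := Lyons.toLy

/-- The subgroup `⟨a, b, c, d⟩`. -/
noncomputable abbrev H : Subgroup Spor.Ly := LyPresented.lyH

theorem range_φ : φ.range = H := by
  refine le_antisymm ?_ ?_
  · rw [MonoidHom.range_eq_map, ← PresentedGroup.closure_range_of lyHSetup.rels, MonoidHom.map_closure,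
      Subgroup.closure_le, H, ← LyPresented.range_toLy]
    rintro _ ⟨_, ⟨x, rfl⟩, rfl⟩
    have h : ∀ y : LyPresented.KGen, LyPresented.incl y = Lyons.incl x →
        φ (PresentedGroup.of x) ∈ LyPresented.toLy.range := fun y hy =>
      ⟨PresentedGroup.of y, by rw [LyPresented.toLy_of, hy]; exact (Lyons.toLy_of x).symm⟩
    have hc : φ (PresentedGroup.of LyH.Gen.c) ∈ LyPresented.toLy.range :=
      ⟨PresentedGroup.of .c1, by
        rw [LyPresented.toLy_of]
        exact (Lyons.of_eq_gw Spor.Ly.Gen.c1).trans ((Lyons.of_eq_gw Spor.Ly.Gen.c).symm.trans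
          (Lyons.toLy_of LyH.Gen.c).symm)⟩
    cases x
    exacts [h .a rfl, h .b rfl, hc, h .c2 rfl, h .c3 rfl, h .c4 rfl, h .c5 rfl, h .e rfl, h .d rfl]
  · rw [H, LyPresented.lyH, MonoidHom.map_closure, Subgroup.closure_le]
    have hof : ∀ y : LyH.Gen, PresentedGroup.mk LyPresented.lyRels (FreeGroup.of (Lyons.incl y)) ∈ φ.range :=
      fun y => ⟨PresentedGroup.of y, Lyons.toLy_of y⟩
    rintro _ ⟨w, rfl | rfl | rfl | rfl, rfl⟩
    exacts [hof .a, hof .b, hof .c, hof .d]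

theorem φ_injective : Function.Injective φ := by
  have h : Nat.card φ.range = Nat.card K := by rw [range_φ, card_K]; exact Lyons.natCard_lyH
  have hb : Function.Bijective φ.rangeRestrict :=
    (Nat.bijective_iff_surjective_and_card _).mpr ⟨φ.rangeRestrict_surjective, h.symm⟩
  exact fun x y e => hb.1 (Subtype.ext e)

theorem φ_mem (g : K) : φ g ∈ H := range_φ ▸ ⟨g, rfl⟩

theorem exists_pre {x : Spor.Ly} (h : x ∈ H) : ∃ g : K, φ g = x := by
  rw [← range_φ] at h; exact h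

theorem φ_kw : ∀ {w : List ℕ}, okW w = true → φ (kw w) = wordEl elL w
  | [], _ => by simp [kw, wordEl]
  | a :: w, h => by
    simp only [okW, List.all_cons, Bool.and_eq_true, Nat.blt_eq] at h
    rw [show kw (a :: w) = lyHSetup.el a * kw w by simp [kw, wordEl], map_mul, φ_kw h.2,
      show φ (lyHSetup.el a) = elL a from Lyons.toLy_el a h.1]
    simp [wordEl]

/-- The generator `z`. -/
noncomputable def zL : Spor.Ly := elL 18

/-- The twist relators. -/
def twistOK : Bool :=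
  (List.range 8).all fun j =>
    Lyons.reduce (19 :: stabW.getD j [] ++ [18] ++ winv (swW.getD j [])) ==
      Lyons.reduce (Lyons.letters (Spor.Ly.extra.getD (72 + j) 1))

theorem twist_check : (twistOK && stabW.all okW && swW.all okW && Nat.blt 79 Spor.Ly.extra.length) = true := by
  decide +kernel

theorem twist {j : ℕ} (hj : j < 8) :
    zL⁻¹ * φ (kw (stabW.getD j [])) * zL = φ (kw (swW.getD j [])) := by
  have h := twist_check
  simp only [twistOK, Bool.and_eq_true, List.all_eq_true, List.mem_range, Nat.blt_eq] at h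
  obtain ⟨⟨⟨hr, hs⟩, hw⟩, hlen⟩ := h
  have e := Lyons.eq_of_reduce (hr j hj)
  have hmem : Spor.Ly.extra.getD (72 + j) 1 ∈ Spor.Ly.extra := by
    rw [List.getD_eq_getElem _ _ (by omega)]; exact List.getElem_mem _
  rw [Lyons.rel_letters hmem, wordEl_append, wordEl_append, wordEl_winv elL_inv, mul_inv_eq_one] at e
  have hlt : ∀ l : List (List ℕ), l.length = 8 → l.getD j [] ∈ l := fun l hl => by
    rw [List.getD_eq_getElem _ _ (by omega)]; exact List.getElem_mem _
  rw [φ_kw (hs _ (hlt stabW rfl)), φ_kw (hw _ (hlt swW rfl)), ← e]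
  rw [show zL⁻¹ = elL 19 from (elL_inv 9).symm]
  simp [zL, wordEl, mul_assoc]

/-- What is asked of the suborbits. -/
structure DeltaData : Prop where
  index : H.index = 8835156
  delta : {q : Spor.Ly ⧸ H | ∃ h ∈ H, q = ((h * zL : Spor.Ly) : Spor.Ly ⧸ H)}.ncard = 19530
  rest : ∀ g : Spor.Ly, g ∈ H ∨ (∃ h ∈ H, g⁻¹ * (h * zL) ∈ H) ∨
    25 ∣ {q : Spor.Ly ⧸ H | ∃ h ∈ H, q = ((h * g : Spor.Ly) : Spor.Ly ⧸ H)}.ncard

theorem DeltaData.finite (_D : DeltaData) : Finite Spor.Ly := by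
  have h1 : Finite H := Nat.finite_of_card_ne_zero (by rw [Lyons.natCard_lyH]; norm_num)
  refine Nat.finite_of_card_ne_zero ?_
  rw [← H.card_mul_index, _D.index, Lyons.natCard_lyH]
  norm_num

theorem DeltaData.sylow (D : DeltaData) : ¬ 5 ^ 7 ∣ Nat.card Spor.Ly := by
  rw [← H.card_mul_index, D.index, Lyons.natCard_lyH]
  norm_num

/-- The cosets fixed by the twisted generators. -/
theorem stabW_fix (g : K) (hg : g ∈ span stabW) :
    φ g • ((zL : Spor.Ly) : Spor.Ly ⧸ H) = ((zL : Spor.Ly) : Spor.Ly ⧸ H) := by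
  induction hg using Subgroup.closure_induction with
  | mem g hg =>
    obtain ⟨w, hw, rfl⟩ := hg
    obtain ⟨j, hj, rfl⟩ := List.getElem_of_mem (l := stabW) hw
    show ((φ (kw stabW[j]) * zL : Spor.Ly) : Spor.Ly ⧸ H) = _
    rw [QuotientGroup.eq, mul_inv_rev]
    have h := twist (j := j) hj
    rw [List.getD_eq_getElem _ _ hj] at h
    have e : zL⁻¹ * (φ (kw stabW[j]))⁻¹ * zL = (zL⁻¹ * φ (kw stabW[j]) * zL)⁻¹ := by group
    rw [e, h]
    exact inv_mem (φ_mem _)
  | one => simp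
  | mul a b _ _ iha ihb => rw [map_mul, mul_smul, ihb, iha]
  | inv a _ iha =>
    rw [map_inv]
    conv_lhs => rw [← iha]
    rw [inv_smul_smul]

/-- The stabiliser of `zH` is the stabiliser of the first point of the table. -/
theorem stab_z (D : DeltaData) (g : K) :
    φ g • ((zL : Spor.Ly) : Spor.Ly ⧸ H) = ((zL : Spor.Ly) : Spor.Ly ⧸ H) ↔ ρ g pt0 = pt0 := by
  have h2 : ∀ v : K, ρ v pt0 = pt0 → φ v • ((zL : Spor.Ly) : Spor.Ly ⧸ H) = ((zL : Spor.Ly) : Spor.Ly ⧸ H) :=
    fun v hv => stabW_fix v (stab_eq_span ▸ (stab0 v).1 hv)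
  choose tr htr using transitive
  let F : Fin lyHTab.n → Spor.Ly ⧸ H := fun i => φ (tr i) • ((zL : Spor.Ly) : Spor.Ly ⧸ H)
  have hF : ∀ v : K, φ v • ((zL : Spor.Ly) : Spor.Ly ⧸ H) = F (ρ v pt0) := by
    intro v
    have hv : ρ ((tr (ρ v pt0))⁻¹ * v) pt0 = pt0 := by
      rw [map_mul, map_inv, Equiv.Perm.mul_apply, Equiv.Perm.inv_def, Equiv.symm_apply_eq, htr]
    conv_lhs => rw [show v = tr (ρ v pt0) * ((tr (ρ v pt0))⁻¹ * v) by group, map_mul, mul_smul, h2 _ hv]
  have hr : Set.range F = {q : Spor.Ly ⧸ H | ∃ h ∈ H, q = ((h * zL : Spor.Ly) : Spor.Ly ⧸ H)} := by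
    ext q
    constructor
    · rintro ⟨i, rfl⟩; exact ⟨φ (tr i), φ_mem _, rfl⟩
    · rintro ⟨h, hh, rfl⟩
      obtain ⟨v, rfl⟩ := exists_pre hh
      exact ⟨ρ v pt0, (hF v).symm⟩
  have hinj : Function.Injective F := by
    have hb : Function.Bijective (Set.rangeFactorization F) :=
      (Nat.bijective_iff_surjective_and_card _).mpr ⟨Set.rangeFactorization_surjective,
        by rw [Nat.card_fin, Nat.card_coe_set_eq, hr, D.delta]; rfl⟩
    exact fun a b e => hb.1 (Subtype.ext e)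
  refine ⟨fun h => hinj ?_, h2 g⟩
  rw [← hF, h]
  conv_lhs => rw [← one_smul Spor.Ly ((zL : Spor.Ly) : Spor.Ly ⧸ H), ← map_one φ, hF 1, map_one]
  rfl

theorem zL_not_mem (D : DeltaData) : zL ∉ H := by
  intro hz
  have : {q : Spor.Ly ⧸ H | ∃ h ∈ H, q = ((h * zL : Spor.Ly) : Spor.Ly ⧸ H)} ⊆ {((1 : Spor.Ly) : Spor.Ly ⧸ H)} := by
    rintro _ ⟨h, hh, rfl⟩
    rw [Set.mem_singleton_iff, QuotientGroup.eq]
    simpa using inv_mem (mul_mem hh hz)
  have h2 := Set.ncard_le_ncard this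
  rw [D.delta, Set.ncard_singleton] at h2
  omega

/-- A coset fixed by a subgroup of order divisible by `5 ^ 5` is the base or a point of the table it fixes. -/
theorem fixed_coset (D : DeltaData) {Q : Subgroup K} (hQ : 5 ^ 5 ∣ Nat.card Q) {g : Spor.Ly}
    (hg : ∀ q ∈ Q, g⁻¹ * φ q * g ∈ H) :
    g ∈ H ∨ ∃ v : K, (φ v * zL)⁻¹ * g ∈ H ∧ ∀ q ∈ Q, ρ q (ρ v pt0) = ρ v pt0 := by
  have := D.finite
  rcases D.rest g with h | ⟨h, hh, hgh⟩ | h25
  · exact Or.inl h
  · obtain ⟨v, rfl⟩ := exists_pre hh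
    refine Or.inr ⟨v, by simpa [mul_assoc] using inv_mem hgh, fun q hq => ?_⟩
    have hfix : ρ (v⁻¹ * q * v) pt0 = pt0 := by
      rw [← stab_z D]
      show ((φ (v⁻¹ * q * v) * zL : Spor.Ly) : Spor.Ly ⧸ H) = _
      rw [QuotientGroup.eq]
      have e : (φ (v⁻¹ * q * v) * zL)⁻¹ * zL =
          (g⁻¹ * (φ v * zL))⁻¹ * (g⁻¹ * φ q * g)⁻¹ * (g⁻¹ * (φ v * zL)) := by
        simp only [map_mul, map_inv]; group
      rw [e]
      exact mul_mem (mul_mem (inv_mem hgh) (inv_mem (hg q hq))) hgh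
    rw [map_mul, map_mul, map_inv, Equiv.Perm.mul_apply, Equiv.Perm.mul_apply, Equiv.Perm.inv_def,
      Equiv.symm_apply_eq] at hfix
    exact hfix
  · exfalso
    let x : Spor.Ly ⧸ H := (g : Spor.Ly)
    have horb : MulAction.orbit H x = {q : Spor.Ly ⧸ H | ∃ h ∈ H, q = ((h * g : Spor.Ly) : Spor.Ly ⧸ H)} := by
      ext q
      constructor
      · rintro ⟨h, rfl⟩; exact ⟨h, h.2, rfl⟩
      · rintro ⟨h, hh, rfl⟩; exact ⟨⟨h, hh⟩, rfl⟩
    have h1 : Nat.card (MulAction.orbit H x) * Nat.card (MulAction.stabilizer H x) = Nat.card H := by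
      rw [← Nat.card_prod]
      exact Nat.card_congr (MulAction.orbitProdStabilizerEquivGroup H x)
    have h2 : Nat.card Q ∣ Nat.card (MulAction.stabilizer H x) := by
      let f : Q →* MulAction.stabilizer H x :=
        { toFun := fun q => ⟨⟨φ q, φ_mem _⟩, by
            show ((φ q * g : Spor.Ly) : Spor.Ly ⧸ H) = _
            rw [QuotientGroup.eq, mul_inv_rev, show g⁻¹ * (φ (q : K))⁻¹ * g = (g⁻¹ * φ q * g)⁻¹ by group]
            exact inv_mem (hg q q.2)⟩
          map_one' := Subtype.ext (Subtype.ext (map_one φ))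
          map_mul' := fun a b => Subtype.ext (Subtype.ext (map_mul φ _ _)) }
      exact Subgroup.card_dvd_of_injective f fun a b e =>
        Subtype.ext (φ_injective (Subtype.ext_iff.1 (Subtype.ext_iff.1 e)))
    have h3 : 5 ^ 7 ∣ Nat.card H := by
      rw [← h1, show (5 : ℕ) ^ 7 = 25 * 5 ^ 5 by norm_num]
      refine Nat.mul_dvd_mul ?_ (hQ.trans h2)
      rw [Nat.card_coe_set_eq, horb]
      exact h25
    rw [Lyons.natCard_lyH] at h3
    norm_num at h3

end Cfsg.Agent.LyonsOut
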