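import Cfsg.Agent.Lib.LyonsOut.Span
import Cfsg.Agent.Lib.LyonsOut.Data

/-!
# The parabolic facts inside the group of type G2(5)

* `Uk`, `Q1k`, `Q2k` : the Sylow 5-subgroup and the two radicals
* `card_Uk`, `charQ1`, `charQ2`, `gensK`
* `fix_Q1`, `fix_Q2`, `fix_stab`, `norm1K`, `centK`
-/

set_option autoImplicit false
set_option maxRecDepth 100000

namespace Cfsg.Agent.LyonsOut

open Cfsg.Agent.CosetEnum
open Cfsg.Agent.HNPresented (winv sub')
open scoped commutatorElement

/-- The Sylow subgroup. -/
noncomputable def Uk : Subgroup K := span uGens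

/-- The first radical. -/
noncomputable def Q1k : Subgroup K := span q1Gens

/-- The second radical. -/
noncomputable def Q2k : Subgroup K := span q2Gens

/-- One step of the series. -/
noncomputable def stepOK (k : ℕ) : Bool :=
  let prev := uGens.take k
  let x := uGens.getD k []
  let s := series.getD k ([], 0, [])
  eqK (x ++ x ++ x ++ x ++ x) [] && conjOK prev x s.1 && okW x && prev.all okW &&
    s.2.2.contains s.2.1 && Nat.blt s.2.1 19530 && !(s.2.2.contains (evK x s.2.1)) &&
    force (StabCert.maskL s.2.2) fun M =>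
      s.2.2.all fun i => Nat.blt i 19530 && prev.all fun g => M.testBit (evK g i)

theorem step_checks : ((List.range 6).all stepOK) = true := by decide +kernel

theorem card_series : ∀ k ≤ 6, Nat.card (span (uGens.take k)) = 5 ^ k := by
  intro k
  induction k with
  | zero =>
    intro _
    simp [span]
  | succ k ih =>
    intro hk
    have h := List.all_eq_true.1 step_checks k (List.mem_range.2 (by omega))
    simp only [stepOK, force_eq, Bool.and_eq_true, List.all_eq_true, Nat.blt_eq, List.contains_iff_mem,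
      StabCert.testBit_maskL, Bool.not_eq_true'] at h
    obtain ⟨⟨⟨⟨⟨⟨⟨h5, hc⟩, hxk⟩, hpk⟩, hp⟩, hplt⟩, hnot⟩, hinv⟩ := h
    set x := uGens.getD k [] with hx
    set S := (series.getD k ([], 0, [])).2.2 with hS
    set p := (series.getD k ([], 0, [])).2.1 with hpd
    have hlen : k < uGens.length := by simp [uGens]; omega
    rw [← List.take_concat_get' uGens k hlen, show uGens[k] = x by rw [hx, List.getD_eq_getElem _ _ hlen],
      span_snoc, card_insert (by norm_num : Nat.Prime 5) ?_ (conj_mem hc) ?_, ih (by omega)]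
    · ring
    · have e := eqK_spec h5
      simp only [kw_append] at e
      rw [show kw x ^ 5 = kw x * kw x * kw x * kw x * kw x by simp [pow_succ], e]
      simp [kw, StabCert.wordEl]
    · intro hxm
      have key : ∀ g ∈ span (uGens.take k), ∀ i : Fin lyHTab.n, (i : ℕ) ∈ S → (ρ g i : ℕ) ∈ S := by
        intro g hg
        induction hg using Subgroup.closure_induction with
        | mem g hg =>
          obtain ⟨w, hw, rfl⟩ := hg
          intro i hi
          rw [ρ_kw_evK (hpk w hw)]
          exact (hinv i hi).2 w hw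
        | one => intro i hi; simpa using hi
        | mul a b _ _ iha ihb => intro i hi; rw [map_mul, Equiv.Perm.mul_apply]; exact iha _ (ihb i hi)
        | inv a _ iha =>
          intro i hi
          have hfin : Set.MapsTo (ρ a) {j : Fin lyHTab.n | (j : ℕ) ∈ S} {j : Fin lyHTab.n | (j : ℕ) ∈ S} :=
            fun j hj => iha j hj
          have hs := ((Set.toFinite _).injOn_iff_bijOn_of_mapsTo hfin).1 (ρ a).injective.injOn
          obtain ⟨j, hj, e⟩ := hs.surjOn hi
          rw [map_inv, Equiv.Perm.inv_def, ← e, Equiv.symm_apply_apply]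
          exact hj
      have h2 := key _ hxm ⟨p, hplt⟩ hp
      rw [ρ_kw_evK hxk] at h2
      have h3 : S.contains (evK x p) = true := List.contains_iff_mem.2 h2
      rw [hnot] at h3
      exact Bool.false_ne_true h3

theorem card_Uk : Nat.card Uk = 5 ^ 6 := by
  rw [Uk, ← card_series 6 le_rfl]
  rfl

/-- The bounds for the series, the first being the whole subgroup. -/
def levels : List (List (List ℕ)) := uGens :: bounds

/-- The generators of a bound. -/
def lev (d : ℕ) : List (List ℕ) := levels.getD d []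

/-- Commutators and conjugates at one level. -/
noncomputable def boundOK (d : ℕ) : Bool :=
  ((List.range (lev d).length).all fun i => allMem (lev (d + 1))
    (uGens.map fun y => commW ((lev d).getD i []) y) ((commB.getD d []).getD i [])) &&
  ((List.range 6).all fun j => conjOK (lev (d + 1)) (uGens.getD j []) ((normB.getD d []).getD j [])) &&
  allMem uGens (lev (d + 1)) (bInU.getD d [])

theorem bound_checks : ((List.range 4).all boundOK) = true := by decide +kernel

theorem lev_le_U {d : ℕ} (hd : d < 4) : span (lev (d + 1)) ≤ Uk := by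
  have h := List.all_eq_true.1 bound_checks d (List.mem_range.2 hd)
  simp only [boundOK, Bool.and_eq_true] at h
  exact span_le fun w hw => mem_span_of_allMem h.2 hw

theorem conj_both {G : Type*} [Group G] {N : Subgroup G} {y : G} (hy : y ∈ Subgroup.normalizer (N : Set G)) :
    ∀ n ∈ N, y * n * y⁻¹ ∈ N ∧ y⁻¹ * n * y ∈ N := fun n hn =>
  ⟨(Subgroup.mem_normalizer_iff.mp hy n).1 hn, (Subgroup.mem_normalizer_iff''.mp hy n).1 hn⟩

theorem U_le_norm_lev {d : ℕ} (hd : d < 4) : Uk ≤ Subgroup.normalizer (span (lev (d + 1)) : Set K) := by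
  have h := List.all_eq_true.1 bound_checks d (List.mem_range.2 hd)
  simp only [boundOK, Bool.and_eq_true, List.all_eq_true, List.mem_range] at h
  refine (Subgroup.closure_le _).2 ?_
  rintro _ ⟨w, hw, rfl⟩
  obtain ⟨j, hj, rfl⟩ := List.getElem_of_mem hw
  have h2 := h.1.2 j (by simpa [uGens] using hj)
  rw [List.getD_eq_getElem _ _ hj] at h2
  exact mem_normalizer h2

theorem lowerSer_le : ∀ d ≤ 4, lowerSer Uk d ≤ span (lev d) := by
  intro d
  induction d with
  | zero => intro _; exact le_rfl
  | succ d ih =>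
    intro hd
    refine (Subgroup.commutator_mono (ih (by omega)) le_rfl).trans ?_
    have hmem : span (lev d) ≤ Uk := by
      rcases Nat.eq_zero_or_pos d with rfl | hpos
      · exact le_rfl
      · obtain ⟨e, rfl⟩ : ∃ e, d = e + 1 := ⟨d - 1, by omega⟩
        exact lev_le_U (by omega)
    have h := List.all_eq_true.1 bound_checks d (List.mem_range.2 (by omega))
    simp only [boundOK, Bool.and_eq_true, List.all_eq_true, List.mem_range] at h
    have hN := U_le_norm_lev (d := d) (by omega)
    refine commutator_closure_le (fun x hx => conj_both (hN (hmem (Subgroup.subset_closure hx))))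
      (fun y hy => conj_both (hN (Subgroup.subset_closure hy))) ?_
    rintro _ ⟨v, hv, rfl⟩ _ ⟨y, hy, rfl⟩
    obtain ⟨i, hi, rfl⟩ := List.getElem_of_mem hv
    have h2 := h.1.1 i hi
    rw [List.getD_eq_getElem _ _ hi] at h2
    rw [← kw_commW]
    exact mem_span_of_allMem h2 (List.mem_map_of_mem hy)

/-- An iterated commutator of generators of `U`. -/
def nestW : List ℕ → List ℕ
  | [] => []
  | i :: l => l.foldl (fun w j => commW w (uGens.getD j [])) (uGens.getD i [])

theorem uGens_getD_mem (i : ℕ) : kw (uGens.getD i []) ∈ Uk := by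
  by_cases h : i < uGens.length
  · rw [List.getD_eq_getElem _ _ h]; exact kw_mem_span (List.getElem_mem h)
  · rw [List.getD_eq_default _ _ (by omega)]; simp [kw, StabCert.wordEl]

theorem nestW_mem : ∀ (i : ℕ) (l : List ℕ), kw (nestW (i :: l)) ∈ lowerSer Uk l.length := by
  intro i l
  induction l using List.reverseRecOn with
  | nil => exact uGens_getD_mem i
  | append_singleton l j ih =>
    simp only [nestW, List.foldl_append, List.foldl_cons, List.foldl_nil, List.length_append, List.length_cons,
      List.length_nil, Nat.zero_add, kw_commW]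
    exact Subgroup.commutator_mem_commutator ih (uGens_getD_mem j)

/-- A power of a word. -/
def powW (w : List ℕ) : ℕ → List ℕ
  | 0 => []
  | n + 1 => powW w n ++ w

theorem kw_powW (w : List ℕ) : ∀ n, kw (powW w n) = kw w ^ n
  | 0 => by simp [powW, kw, StabCert.wordEl]
  | n + 1 => by rw [powW, kw_append, kw_powW w n, pow_succ]

theorem centre_check : (eqK (powW (nestW centreWit.1) centreWit.2) [12] && (centreWit.1.length == 5) &&
    (lev 4 == [[12]])) = true := by decide +kernel

theorem lowerSer_four : lowerSer Uk 4 = span (lev 4) := by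
  refine le_antisymm (lowerSer_le 4 le_rfl) ?_
  have h := centre_check
  simp only [Bool.and_eq_true, beq_iff_eq] at h
  rw [h.2]
  refine (Subgroup.closure_le _).2 ?_
  rintro _ ⟨w, hw, rfl⟩
  rw [List.mem_singleton.1 hw, ← eqK_spec h.1.1, kw_powW]
  refine pow_mem ?_ _
  obtain ⟨i, l, e⟩ : ∃ i l, centreWit.1 = i :: l := ⟨_, _, rfl⟩
  have hl := h.1.2
  rw [e, List.length_cons] at hl
  rw [e, show (4 : ℕ) = l.length by omega]
  exact nestW_mem i l

/-- The radicals inside the Sylow subgroup, and the elements completing them. -/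
noncomputable def radOK : Bool :=
  allMem uGens q2Gens q2InU &&
  conjOK q1Gens [2] bQ1 && conjOK q2Gens [6] c2Q2 && conjOK q1Gens [0] aQ1 && conjOK q2Gens [14] eQ2 &&
  eqK [2, 2, 2, 2, 2] [] && eqK [6, 6, 6, 6, 6] [] && eqK [16] dWord &&
  (q1Gens.all fun w => uGens.contains w) &&
  ((List.range 5).all fun i => allMem (lev 4) ((lev 2).map fun y => commW (q1Gens.getD i []) y)
    (q1comm.getD i [])) &&
  (q2Gens.all fun q => (lev 3).all fun y => eqK (q ++ y) (y ++ q))

theorem rad_check : radOK = true := by decide +kernel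

theorem rad_spec : Q2k ≤ Uk ∧ Q1k ≤ Uk ∧ (∀ g ∈ Q1k, kw [2] * g * (kw [2])⁻¹ ∈ Q1k) ∧
    (∀ g ∈ Q2k, kw [6] * g * (kw [6])⁻¹ ∈ Q2k) ∧ kw [0] ∈ Subgroup.normalizer (Q1k : Set K) ∧
    kw [14] ∈ Subgroup.normalizer (Q2k : Set K) ∧ kw [2] ^ 5 = 1 ∧ kw [6] ^ 5 = 1 ∧ kw [16] = kw dWord := by
  have h := rad_check
  simp only [radOK, Bool.and_eq_true] at h
  obtain ⟨⟨⟨⟨⟨⟨⟨⟨⟨⟨h1, h2⟩, h3⟩, h4⟩, h5⟩, h6⟩, h7⟩, h8⟩, h9⟩, -⟩, -⟩ := h
  refine ⟨span_le fun w hw => mem_span_of_allMem h1 hw, span_le fun w hw => kw_mem_span ?_, conj_mem h2,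
    conj_mem h3, mem_normalizer h4, mem_normalizer h5, ?_, ?_, eqK_spec h8⟩
  · simpa [List.contains_iff_mem] using List.all_eq_true.1 h9 w hw
  · rw [← kw_powW, show powW [2] 5 = [2, 2, 2, 2, 2] from rfl, eqK_spec h6]; rfl
  · rw [← kw_powW, show powW [6] 5 = [6, 6, 6, 6, 6] from rfl, eqK_spec h7]; rfl

theorem decomp_Q1 : ∀ u ∈ Uk, ∃ q ∈ Q1k, ∃ i < 5, u = q * kw [2] ^ i := by
  intro u hu
  refine closure_insert_decomp (Q := Q1k) (x := kw [2]) (by norm_num)
    (by rw [rad_spec.2.2.2.2.2.2.1]; exact one_mem _) rad_spec.2.2.1 u ?_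
  show u ∈ Subgroup.closure ((span q1Gens : Set K) ∪ {kw [2]})
  rw [← span_snoc q1Gens [2]]
  exact span_le (fun w hw => kw_mem_span (by
    revert w
    decide)) hu

theorem decomp_Q2 : ∀ u ∈ Uk, ∃ q ∈ Q2k, ∃ i < 5, u = q * kw [6] ^ i := by
  have hcheck : (uGens.all fun w => (q2Gens ++ [[6]]).contains w || w == [12]) = true := by decide
  have h12 : kw [12] ∈ span (q2Gens ++ [[6]]) := by
    have h : eqK [12] (sub' (q2Gens ++ [[6]]) [0, 0, 0, 0, 1, 1, 1, 0, 1, 1]) = true := by decide +kernel
    exact (eqK_spec h) ▸ kw_sub'_mem _ _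
  intro u hu
  refine closure_insert_decomp (Q := Q2k) (x := kw [6]) (by norm_num)
    (by rw [rad_spec.2.2.2.2.2.2.2.1]; exact one_mem _) rad_spec.2.2.2.1 u ?_
  show u ∈ Subgroup.closure ((span q2Gens : Set K) ∪ {kw [6]})
  rw [← span_snoc q2Gens [6]]
  refine span_le (fun w hw => ?_) hu
  have := List.all_eq_true.1 hcheck w hw
  simp only [Bool.or_eq_true, List.contains_iff_mem, beq_iff_eq] at this
  rcases this with h | rfl
  · exact kw_mem_span h
  · exact h12

end Cfsg.Agent.LyonsOut
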