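import Cfsg.Agent.Lib.LyonsOut.Facts

/-!
# The characterisations of the radicals, and the fixed points

* `charQ1`, `charQ2`, `gensK`
* `fix_Q1`, `fix_Q2`, `fix_stab`, `to_zero`, `norm1K`, `centK`
-/

set_option autoImplicit false
set_option maxRecDepth 100000

namespace Cfsg.Agent.LyonsOut

open Cfsg.Agent.CosetEnum
open Cfsg.Agent.HNPresented (winv sub')
open scoped commutatorElement

/-- The witnesses outside the radicals. -/
noncomputable def witOK : Bool :=
  ((List.range 4).all fun i =>
    let t := witQ1.getD i ([], 0)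
    (t.1.length == 3) && Nat.blt t.2 19530 && fixesK [12] [t.2] &&
      okW (commW (powW [2] (i + 1)) (nestW t.1)) &&
      !(Nat.beq (evK (commW (powW [2] (i + 1)) (nestW t.1)) t.2) t.2)) &&
  (List.range 4).all fun i =>
    let t := witQ2.getD i ([], 0)
    (t.1.length == 4) && Nat.blt t.2 19530 &&
      okW (commW (powW [6] (i + 1)) (nestW t.1)) &&
      !(Nat.beq (evK (commW (powW [6] (i + 1)) (nestW t.1)) t.2) t.2)

theorem wit_check : witOK = true := by decide +kernel

theorem charQ1 : CharBy Uk (lowerSer Uk 2) (lowerSer Uk 4) Q1k := by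
  have hN := lowerSer_four
  have hr := rad_spec
  have hcl : ⁅Q1k, span (lev 2)⁆ ≤ span (lev 4) := by
    have hn := U_le_norm_lev (d := 3) (by omega)
    refine commutator_closure_le (fun x hx => conj_both (hn (hr.2.1 (Subgroup.subset_closure hx))))
      (fun y hy => conj_both (hn (lev_le_U (d := 1) (by omega) (Subgroup.subset_closure hy)))) ?_
    rintro _ ⟨v, hv, rfl⟩ _ ⟨y, hy, rfl⟩
    have h := rad_check
    simp only [radOK, Bool.and_eq_true, List.all_eq_true, List.mem_range] at h
    obtain ⟨i, hi, rfl⟩ := List.getElem_of_mem hv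
    have h2 := h.1.2 i (by simpa [q1Gens] using hi)
    rw [List.getD_eq_getElem _ _ hi] at h2
    rw [← kw_commW]
    exact mem_span_of_allMem h2 (List.mem_map_of_mem hy)
  refine charBy_of_gens (x := kw [2]) (p := 5) hr.2.1 decomp_Q1
    (fun q hq y hy => hN.symm ▸ hcl (Subgroup.commutator_mem_commutator hq (lowerSer_le 2 (by omega) hy)))
    (fun q hq n hn => hN.symm ▸ (conj_both (U_le_norm_lev (d := 3) (by omega) (hr.2.1 hq)) n (hN ▸ hn)).2) ?_
  intro i hi0 hi5
  have h := wit_check
  simp only [witOK, Bool.and_eq_true, List.all_eq_true, List.mem_range, beq_iff_eq, Nat.blt_eq,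
    Bool.not_eq_true'] at h
  obtain ⟨⟨⟨⟨hl, hlt⟩, hfx⟩, hok⟩, hmv⟩ := h.1 (i - 1) (by omega)
  rw [show i - 1 + 1 = i by omega] at hok hmv
  set t := witQ1.getD (i - 1) ([], 0) with ht
  obtain ⟨j, l, e⟩ : ∃ j l, t.1 = j :: l := by
    cases hh : t.1 with
    | nil => simp [hh] at hl
    | cons j l => exact ⟨j, l, rfl⟩
  rw [e, List.length_cons] at hl
  refine ⟨kw (nestW t.1), ?_, ?_⟩
  · rw [e, show (2 : ℕ) = l.length by omega]; exact nestW_mem j l
  · intro hmem
    rw [hN] at hmem
    have key : ∀ g ∈ span (lev 4), ρ g ⟨t.2, hlt⟩ = ⟨t.2, hlt⟩ := by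
      intro g hg
      induction hg using Subgroup.closure_induction with
      | mem g hg =>
        obtain ⟨w, hw, rfl⟩ := hg
        have hl4 : lev 4 = [[12]] := by
          have := centre_check
          simp only [Bool.and_eq_true, beq_iff_eq] at this
          exact this.2
        change w ∈ lev 4 at hw
        rw [hl4, List.mem_singleton] at hw
        subst hw
        exact fixesK_spec hfx (by simp)
      | one => simp
      | mul a b _ _ iha ihb => rw [map_mul, Equiv.Perm.mul_apply, ihb, iha]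
      | inv a _ iha => rw [map_inv, Equiv.Perm.inv_def, Equiv.symm_apply_eq]; exact iha.symm
    have h1 := key _ hmem
    rw [← kw_powW, ← kw_commW] at h1
    have h2 := congrArg Fin.val h1
    rw [ρ_kw_evK hok] at h2
    simp only at h2
    rw [h2, Nat.beq_refl] at hmv
    simp at hmv

theorem charQ2 : CharBy Uk (lowerSer Uk 3) ⊥ Q2k := by
  have hr := rad_spec
  have hcl : ⁅Q2k, span (lev 3)⁆ ≤ ⊥ := by
    refine commutator_closure_le (fun x _ n hn => by simp [Subgroup.mem_bot.1 hn])
      (fun y _ n hn => by simp [Subgroup.mem_bot.1 hn]) ?_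
    rintro _ ⟨v, hv, rfl⟩ _ ⟨y, hy, rfl⟩
    have h := rad_check
    simp only [radOK, Bool.and_eq_true, List.all_eq_true] at h
    rw [Subgroup.mem_bot, commutatorElement_eq_one_iff_mul_comm, ← kw_append, ← kw_append]
    exact eqK_spec (h.2 v hv y hy)
  refine charBy_of_gens (x := kw [6]) (p := 5) hr.1 decomp_Q2
    (fun q hq y hy => hcl (Subgroup.commutator_mem_commutator hq (lowerSer_le 3 (by omega) hy)))
    (fun q _ n hn => by simp [Subgroup.mem_bot.1 hn]) ?_
  intro i hi0 hi5
  have h := wit_check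
  simp only [witOK, Bool.and_eq_true, List.all_eq_true, List.mem_range, beq_iff_eq, Nat.blt_eq,
    Bool.not_eq_true'] at h
  obtain ⟨⟨⟨hl, hlt⟩, hok⟩, hmv⟩ := h.2 (i - 1) (by omega)
  rw [show i - 1 + 1 = i by omega] at hok hmv
  set t := witQ2.getD (i - 1) ([], 0) with ht
  obtain ⟨j, l, e⟩ : ∃ j l, t.1 = j :: l := by
    cases hh : t.1 with
    | nil => simp [hh] at hl
    | cons j l => exact ⟨j, l, rfl⟩
  rw [e, List.length_cons] at hl
  refine ⟨kw (nestW t.1), ?_, ?_⟩
  · rw [e, show (3 : ℕ) = l.length by omega]; exact nestW_mem j l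
  · intro hmem
    rw [Subgroup.mem_bot, ← kw_powW, ← kw_commW] at hmem
    have h2 : ((ρ (kw (commW (powW [6] i) (nestW t.1)))) ⟨t.2, hlt⟩ : ℕ) = t.2 := by rw [hmem]; simp
    rw [ρ_kw_evK hok] at h2
    simp only at h2
    rw [h2, Nat.beq_refl] at hmv
    simp at hmv

/-- The Sylow subgroup, `a` and `e` generate. -/
theorem gensK : Subgroup.closure ((Uk : Set K) ∪ {kw [0], kw [14]}) = ⊤ := by
  set S := Subgroup.closure ((Uk : Set K) ∪ {kw [0], kw [14]}) with hS
  have hU : ∀ w ∈ uGens, kw w ∈ S := fun w hw => Subgroup.subset_closure (Or.inl (kw_mem_span hw))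
  have ha : kw [0] ∈ S := Subgroup.subset_closure (Or.inr (Or.inl rfl))
  have he : kw [14] ∈ S := Subgroup.subset_closure (Or.inr (Or.inr rfl))
  have hl : ∀ n, n < 8 → kw [2 * n] ∈ S := by
    intro n hn
    interval_cases n
    exacts [ha, hU _ (by decide), hU _ (by decide), hU _ (by decide), hU _ (by decide), hU _ (by decide),
      hU _ (by decide), he]
  have hsingle : ∀ a, kw [a] = lyHSetup.el a := fun a => by simp [kw, StabCert.wordEl]
  have hodd : ∀ n, n < 8 → kw [2 * n + 1] ∈ S := fun n hn => by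
    rw [hsingle, el_inv, ← hsingle]; exact inv_mem (hl n hn)
  have hlt : ∀ a, a < 16 → kw [a] ∈ S := fun a ha => by
    rcases Nat.even_or_odd' a with ⟨n, rfl | rfl⟩
    · exact hl n (by omega)
    · exact hodd n (by omega)
  have hd : kw [16] ∈ S := by
    rw [rad_spec.2.2.2.2.2.2.2.2]
    have hw : ∀ w : List ℕ, (∀ a ∈ w, a < 16) → kw w ∈ S := by
      intro w
      induction w with
      | nil => intro _; simp [kw, StabCert.wordEl]
      | cons a w ih =>
        intro h
        rw [show a :: w = [a] ++ w from rfl, kw_append]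
        exact mul_mem (hlt a (h a List.mem_cons_self)) (ih fun b hb => h b (List.mem_cons_of_mem _ hb))
    exact hw _ (by decide)
  have hall : ∀ n, n ≤ 8 → lyHSetup.el (2 * n) ∈ S := fun n hn => by
    rw [← hsingle]
    rcases Nat.lt_or_ge n 8 with h | h
    · exact hl n h
    · rw [show n = 8 by omega]; exact hd
  rw [eq_top_iff, ← PresentedGroup.closure_range_of lyHSetup.rels, Subgroup.closure_le]
  rintro _ ⟨x, rfl⟩
  cases x
  exacts [hall 0 (by omega), hall 1 (by omega), hall 2 (by omega), hall 3 (by omega), hall 4 (by omega),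
    hall 5 (by omega), hall 6 (by omega), hall 7 (by omega), hall 8 (by omega)]

/-- The fixed point sets. -/
noncomputable def fixOK : Bool :=
  (q1Gens.all fun w => fixesK w fibre) && (fibre.contains 0) &&
  toZero.all fun t => Nat.blt t.1 19530 && okW (sub' uGens t.2) && Nat.beq (evK (sub' uGens t.2) t.1) 0

theorem fix_check : fixOK = true := by decide +kernel

theorem fix_Q1_check : fixedSet q1Gens fibre = true := by decide +kernel

theorem fix_Q2_check : fixedSet q2Gens [] = true := by decide +kernel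

theorem fix_stab_check : fixedSet stabW [0] = true := by decide +kernel

theorem fibre_zero {i : Fin lyHTab.n} (hi : ∀ g ∈ Q1k, ρ g i = i) : ∃ u ∈ Uk, ρ u i = pt0 := by
  have h := fix_check
  simp only [fixOK, Bool.and_eq_true, List.all_eq_true, Nat.blt_eq, Nat.beq_eq] at h
  have hf := fixedSet_spec fix_Q1_check (i := i) fun w hw => hi _ (kw_mem_span hw)
  have hmap : toZero.map Prod.fst = fibre := by decide
  rw [← hmap, List.mem_map] at hf
  obtain ⟨t, ht, e⟩ := hf
  obtain ⟨⟨-, hok⟩, hev⟩ := h.2 t ht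
  refine ⟨_, kw_sub'_mem uGens t.2, Fin.ext ?_⟩
  rw [ρ_kw_evK hok, ← e]
  exact hev

theorem fix_Q2 (i : Fin lyHTab.n) (hi : ∀ g ∈ Q2k, ρ g i = i) : False := by
  have := fixedSet_spec fix_Q2_check (i := i) fun w hw => hi _ (kw_mem_span hw)
  simp at this

theorem fix_stabW (i : Fin lyHTab.n) (hi : ∀ w ∈ stabW, ρ (kw w) i = i) : i = pt0 :=
  Fin.ext (List.mem_singleton.1 (fixedSet_spec fix_stab_check (i := i) hi))

theorem Q1_fix_zero : ∀ g ∈ Q1k, ρ g pt0 = pt0 := by
  have h := fix_check
  simp only [fixOK, Bool.and_eq_true, List.all_eq_true, List.contains_iff_mem] at h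
  intro g hg
  induction hg using Subgroup.closure_induction with
  | mem g hg =>
    obtain ⟨w, hw, rfl⟩ := hg
    exact fixesK_spec (h.1.1 w hw) h.1.2
  | one => simp
  | mul a b _ _ iha ihb => rw [map_mul, Equiv.Perm.mul_apply, ihb, iha]
  | inv a _ iha => rw [map_inv, Equiv.Perm.inv_def, Equiv.symm_apply_eq]; exact iha.symm

theorem stab_eq_span : lyHSetup.closureOf stabGens = span stabW := by
  have hwl : stabGens.map (fun r => (lyHSetup.wl lyHTab r).reverse) = stabW := by decide +kernel
  have hmk : ∀ r, PresentedGroup.mk lyHSetup.rels r = kw (lyHSetup.wl lyHTab r).reverse := fun r => by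
    rw [Setup.mk_eq_ev lyHSetup_gens T.letters r, kw, ← ev_reverse, List.reverse_reverse]
  rw [Setup.closureOf, span, ← hwl]
  congr 1
  ext g
  simp only [Set.mem_image, Set.mem_ofPred_eq, List.mem_map]
  constructor
  · rintro ⟨r, hr, rfl⟩; exact ⟨_, ⟨r, hr, rfl⟩, (hmk r).symm⟩
  · rintro ⟨_, ⟨r, hr, rfl⟩, rfl⟩; exact ⟨r, hr, hmk r⟩

/-- Representatives and their permutation by the generators. -/
noncomputable def transOK : Bool :=
  Nat.beq trans.length (stabW ++ uGens).length && Nat.beq reps.length 6 && (reps.getD 0 [] == []) &&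
  (List.range (stabW ++ uGens).length).all fun s => (List.range 6).all fun k =>
    let t := (trans.getD s []).getD k (0, [])
    Nat.blt t.1 6 && conjOK uGens (winv (reps.getD t.1 []) ++ (stabW ++ uGens).getD s [] ++ reps.getD k []) t.2

theorem trans_check : transOK = true := by decide +kernel

/-- The representative. -/
noncomputable def rep (k : Fin 6) : K := kw (reps.getD k [])

theorem norm1K (h : K) (hh : h ∈ Subgroup.normalizer (Q1k : Set K)) :
    ∃ k, (rep k)⁻¹ * h ∈ Subgroup.normalizer (Uk : Set K) := by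
  have htr := trans_check
  simp only [transOK, Bool.and_eq_true, List.all_eq_true, List.mem_range, Nat.blt_eq, beq_iff_eq] at htr
  let N := Subgroup.normalizer (Uk : Set K)
  have hstep : ∀ w ∈ stabW ++ uGens, ∀ k : Fin 6, ∃ j : Fin 6, (rep j)⁻¹ * kw w * rep k ∈ N := by
    intro w hw k
    obtain ⟨s, hs, rfl⟩ := List.getElem_of_mem hw
    obtain ⟨hj, hc⟩ := htr.2 s hs k k.2
    refine ⟨⟨_, hj⟩, ?_⟩
    have := mem_normalizer hc
    rw [List.getD_eq_getElem _ _ hs, kw_append, kw_append, kw_winv] at this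
    exact this
  have hsub : ∀ g ∈ span (stabW ++ uGens), ∀ k : Fin 6, ∃ j : Fin 6, (rep j)⁻¹ * g * rep k ∈ N := by
    intro g hg
    induction hg using Subgroup.closure_induction with
    | mem g hg => obtain ⟨w, hw, rfl⟩ := hg; exact hstep w hw
    | one => exact fun k => ⟨k, by simp⟩
    | mul a b _ _ iha ihb =>
      intro k
      obtain ⟨j, hj⟩ := ihb k
      obtain ⟨i, hi⟩ := iha j
      refine ⟨i, ?_⟩
      have := N.mul_mem hi hj
      convert this using 1
      group
    | inv a _ iha =>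
      have hpow : ∀ m : ℕ, ∀ k : Fin 6, ∃ j : Fin 6, (rep j)⁻¹ * a ^ m * rep k ∈ N := by
        intro m
        induction m with
        | zero => exact fun k => ⟨k, by simp⟩
        | succ m ih =>
          intro k
          obtain ⟨j, hj⟩ := ih k
          obtain ⟨i, hi⟩ := iha j
          refine ⟨i, ?_⟩
          have := N.mul_mem hi hj
          convert this using 1
          rw [pow_succ']
          group
      intro k
      obtain ⟨m, hm⟩ : ∃ m : ℕ, a⁻¹ = a ^ m := ⟨orderOf a - 1, by
        refine inv_eq_of_mul_eq_one_right ?_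
        rw [← pow_succ', Nat.sub_add_cancel (orderOf_pos a), pow_orderOf_eq_one]⟩
      rw [hm]
      exact hpow m k
  obtain ⟨u, hu, hu0⟩ := fibre_zero (i := ρ h pt0) fun g hg => by
    have h2 : h⁻¹ * g * h ∈ Q1k := (Subgroup.mem_normalizer_iff''.mp hh g).1 hg
    calc ρ g (ρ h pt0) = ρ h (ρ (h⁻¹ * g * h) pt0) := by
          rw [← Equiv.Perm.mul_apply, ← map_mul, ← Equiv.Perm.mul_apply, ← map_mul]; congr 2; group
      _ = ρ h pt0 := by rw [Q1_fix_zero _ h2]
  have hmem : h ∈ span (stabW ++ uGens) := by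
    have h1 : u * h ∈ span (stabW ++ uGens) := by
      refine span_le (vs := stabW ++ uGens) (fun w hw => kw_mem_span (List.mem_append_left _ hw)) ?_
      rw [← stab_eq_span, ← stab0, map_mul, Equiv.Perm.mul_apply, hu0]
    have h2 : u ∈ span (stabW ++ uGens) :=
      span_le (vs := stabW ++ uGens) (fun w hw => kw_mem_span (List.mem_append_right _ hw)) hu
    simpa using mul_mem (inv_mem h2) h1
  obtain ⟨j, hj⟩ := hsub h hmem 0
  refine ⟨j, ?_⟩
  have h0 : rep 0 = 1 := by
    rw [rep, show reps.getD ((0 : Fin 6) : ℕ) [] = [] by decide]; rfl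
  rw [h0, mul_one] at hj
  exact hj

theorem fix_two : fixedSet [[4], [0, 2, 0, 3]] [0, 2] = true := by decide +kernel

theorem fix_four : fixedSet [[0], [2, 2, 0, 3, 3]] [0, 4] = true := by decide +kernel

theorem fix_six : fixedSet [[4], [0, 0]] [0, 1, 2, 5, 8, 621] = true := by decide +kernel

/-- The orbit steps and the membership of the words used for the centre. -/
noncomputable def centOK : Bool :=
  allMem swW stabW stabBack &&
  ([([5, 6, 7], 2, 1), ([6, 7], 2, 5), ([7], 2, 8), ([0, 6], 621, 3)].all fun t =>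
    okW (sub' stabW t.1) && Nat.beq (evK (sub' stabW t.1) t.2.1) t.2.2) &&
  (fixesK [4] [0, 2, 621] && fixesK [0, 2, 0, 3] [0, 2] && fixesK [0] [0, 4] &&
    fixesK [2, 2, 0, 3, 3] [0, 4] && fixesK [0, 0] [0, 621]) &&
  stabW.all fun w => fixesK w [0]

theorem cent_check : centOK = true := by decide +kernel

theorem centK (c : K) (hc : ∀ w ∈ swW, c * kw w = kw w * c) : c = 1 := by
  have hck := cent_check
  simp only [centOK, Bool.and_eq_true, List.all_eq_true] at hck
  obtain ⟨⟨⟨hback, horb⟩, ⟨⟨⟨hf4, hf0203⟩, hf0⟩, hf22033⟩, hf00⟩, hfix0⟩ := hck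
  have hcent : span stabW ≤ Subgroup.centralizer {c} := by
    refine (span_le fun w hw => mem_span_of_allMem hback hw).trans ((Subgroup.closure_le _).2 ?_)
    rintro _ ⟨w, hw, rfl⟩
    rw [SetLike.mem_coe, Subgroup.mem_centralizer_singleton_iff]
    exact (hc w hw).symm
  have hcs : ∀ g ∈ span stabW, c * g = g * c := fun g hg =>
    (Subgroup.mem_centralizer_singleton_iff.1 (hcent hg)).symm
  have hmove : ∀ (g : K) (i : Fin lyHTab.n), g ∈ span stabW → ρ g i = i → ρ g (ρ c i) = ρ c i := by
    intro g i hg hi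
    rw [← Equiv.Perm.mul_apply, ← map_mul, ← hcs g hg, map_mul, Equiv.Perm.mul_apply, hi]
  have h0 : ρ c pt0 = pt0 := fix_stabW _ fun w hw =>
    hmove _ _ (kw_mem_span hw) (fixesK_spec (hfix0 w hw) (by simp [pt0]))
  have horbit : ∀ (l : List ℕ) (p q : ℕ) (hp : p < lyHTab.n) (hq : q < lyHTab.n),
      (l, p, q) ∈ [([5, 6, 7], 2, 1), ([6, 7], 2, 5), ([7], 2, 8), ([0, 6], 621, 3)] →
      ρ c ⟨p, hp⟩ = ⟨p, hp⟩ → ρ c ⟨q, hq⟩ = ⟨q, hq⟩ := by
    intro l p q hp hq hl hcp
    obtain ⟨hok, hev⟩ := horb (l, p, q) hl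
    rw [Nat.beq_eq] at hev
    have e : ρ (kw (sub' stabW l)) ⟨p, hp⟩ = ⟨q, hq⟩ := Fin.ext ((ρ_kw_evK hok _).trans hev)
    rw [← e, ← Equiv.Perm.mul_apply, ← map_mul, hcs _ (kw_sub'_mem stabW l), map_mul, Equiv.Perm.mul_apply, hcp]
  have hm4 : kw [4] ∈ span stabW := kw_mem_span (by decide)
  have hm0 : kw [0] ∈ span stabW := kw_mem_span (by decide)
  have hm00 : kw [0, 0] ∈ span stabW := by
    rw [show ([0, 0] : List ℕ) = [0] ++ [0] from rfl, kw_append]; exact mul_mem hm0 hm0
  have hm203 : kw [0, 2, 0, 3] ∈ span stabW := by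
    rw [show ([0, 2, 0, 3] : List ℕ) = [0] ++ [2, 0, 3] from rfl, kw_append]
    exact mul_mem hm0 (kw_mem_span (by decide))
  have hn : ∀ p, p ∈ [0, 1, 2, 3, 4, 5, 8, 621] → p < lyHTab.n := by decide
  have hzero : ∀ (p : Fin lyHTab.n), (ρ c p : ℕ) = 0 → (p : ℕ) = 0 := fun p hp => by
    have e : ρ c p = ρ c pt0 := by rw [h0]; exact Fin.ext hp
    rw [(ρ c).injective e]; rfl
  have h2 : ρ c ⟨2, hn 2 (by simp)⟩ = ⟨2, hn 2 (by simp)⟩ := by
    have h := fixedSet_spec fix_two (i := ρ c ⟨2, hn 2 (by simp)⟩) fun w hw => by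
      rcases List.mem_cons.1 hw with rfl | hw
      · exact hmove _ _ hm4 (fixesK_spec hf4 (by simp))
      · rw [List.mem_singleton.1 hw]; exact hmove _ _ hm203 (fixesK_spec hf0203 (by simp))
    rcases List.mem_cons.1 h with h | h
    · exact absurd (hzero _ h) (by simp)
    · exact Fin.ext (List.mem_singleton.1 h)
  have h4 : ρ c ⟨4, hn 4 (by simp)⟩ = ⟨4, hn 4 (by simp)⟩ := by
    have h := fixedSet_spec fix_four (i := ρ c ⟨4, hn 4 (by simp)⟩) fun w hw => by
      rcases List.mem_cons.1 hw with rfl | hw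
      · exact hmove _ _ hm0 (fixesK_spec hf0 (by simp))
      · rw [List.mem_singleton.1 hw]
        exact hmove _ _ (kw_mem_span (by decide)) (fixesK_spec hf22033 (by simp))
    rcases List.mem_cons.1 h with h | h
    · exact absurd (hzero _ h) (by simp)
    · exact Fin.ext (List.mem_singleton.1 h)
  have h1 := horbit [5, 6, 7] 2 1 (hn 2 (by simp)) (hn 1 (by simp)) (by simp) h2
  have h5 := horbit [6, 7] 2 5 (hn 2 (by simp)) (hn 5 (by simp)) (by simp) h2
  have h8 := horbit [7] 2 8 (hn 2 (by simp)) (hn 8 (by simp)) (by simp) h2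
  have h621 : ρ c ⟨621, hn 621 (by simp)⟩ = ⟨621, hn 621 (by simp)⟩ := by
    set p : Fin lyHTab.n := ⟨621, hn 621 (by simp)⟩ with hp
    have h := fixedSet_spec fix_six (i := ρ c p) fun w hw => by
      rcases List.mem_cons.1 hw with rfl | hw
      · exact hmove _ _ hm4 (fixesK_spec hf4 (by simp [hp]))
      · rw [List.mem_singleton.1 hw]; exact hmove _ _ hm00 (fixesK_spec hf00 (by simp [hp]))
    have hknown : ∀ q : Fin lyHTab.n, ρ c q = q → (q : ℕ) ≠ 621 → (ρ c p : ℕ) ≠ q := by
      intro q hq hne e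
      have e2 : ρ c p = ρ c q := by rw [hq]; exact Fin.ext e
      exact hne (by rw [← (ρ c).injective e2])
    simp only [List.mem_cons, List.not_mem_nil, or_false] at h
    rcases h with h | h | h | h | h | h
    · exact absurd h (hknown pt0 h0 (by simp [pt0]))
    · exact absurd h (hknown _ h1 (by simp))
    · exact absurd h (hknown _ h2 (by simp))
    · exact absurd h (hknown _ h5 (by simp))
    · exact absurd h (hknown _ h8 (by simp))
    · exact Fin.ext h
  have h3 := horbit [0, 6] 621 3 (hn 621 (by simp)) (hn 3 (by simp)) (by simp) h621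
  refine base_faithful fun i hi => ?_
  simp only [List.mem_cons, List.not_mem_nil, or_false] at hi
  rcases hi with e | e | e | e
  · rw [show i = pt0 from Fin.ext e, h0]
  · rw [show i = ⟨1, hn 1 (by simp)⟩ from Fin.ext e, h1]
  · rw [show i = ⟨3, hn 3 (by simp)⟩ from Fin.ext e, h3]
  · rw [show i = ⟨4, hn 4 (by simp)⟩ from Fin.ext e, h4]

end Cfsg.Agent.LyonsOut
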