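import Cfsg.Agent.Lib.LyonsOut.Embed
import Cfsg.Agent.Lib.LyonsOut.Excl
import Cfsg.Agent.Lib.LyonsOut.Core
import Cfsg.Agent.Lib.ChevAut.OutGroups
import Cfsg.Agent.Lib.LyPresented.Simple

/-!
# The Lyons group has no outer automorphism, given the suborbits

* `card_out_ly` : from `DeltaData`
* `DeltaData.of_suborbits` : the data from four suborbit representatives, the first being `z`
-/

set_option autoImplicit false
set_option maxRecDepth 100000

open Cfsg

namespace Cfsg.Agent.LyonsOut

open Cfsg.Agent.CosetEnum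
open Cfsg.Agent.StabCert (wordEl wordEl_append)
open Cfsg.Agent.HNPresented (winv sub')
open Lyons (elL)
open scoped commutatorElement

/-- The group `U` in Ly. -/
noncomputable def UL : Subgroup Spor.Ly := Uk.map φ

/-- The first radical in Ly. -/
noncomputable def Q1L : Subgroup Spor.Ly := Q1k.map φ

/-- The second radical in Ly. -/
noncomputable def Q2L : Subgroup Spor.Ly := Q2k.map φ

theorem normalizer_map {Q : Subgroup K} {g : K} (h : g ∈ Subgroup.normalizer (Q : Set K)) :
    φ g ∈ Subgroup.normalizer ((Q.map φ : Subgroup Spor.Ly) : Set Spor.Ly) :=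
  Subgroup.le_normalizer_map φ (Subgroup.mem_map_of_mem φ h)

theorem normalizer_comap {Q : Subgroup K} {g : K}
    (h : φ g ∈ Subgroup.normalizer ((Q.map φ : Subgroup Spor.Ly) : Set Spor.Ly)) :
    g ∈ Subgroup.normalizer (Q : Set K) := by
  rw [Subgroup.mem_normalizer_iff] at h ⊢
  intro x
  have := h (φ x)
  rwa [← map_inv, ← map_mul, ← map_mul, Subgroup.mem_map_iff_mem φ_injective,
    Subgroup.mem_map_iff_mem φ_injective] at this

theorem card_rad {Q : Subgroup K} {x : K} (hd : ∀ u ∈ Uk, ∃ q ∈ Q, ∃ i < 5, u = q * x ^ i) (hQ : Q ≤ Uk) :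
    5 ^ 5 ∣ Nat.card Q := by
  choose q hq i hi e using hd
  have hle : Nat.card Uk ≤ Nat.card Q * 5 := by
    rw [← Nat.card_fin 5, ← Nat.card_prod]
    refine Nat.card_le_card_of_injective
      (fun u : Uk => ((⟨q u u.2, hq u u.2⟩, ⟨i u u.2, hi u u.2⟩) : Q × Fin 5)) fun u v h => ?_
    simp only [Prod.mk.injEq, Subtype.mk.injEq, Fin.mk.injEq] at h
    exact Subtype.ext (by rw [e u u.2, e v v.2, h.1, h.2])
  obtain ⟨j, hj, hc⟩ : ∃ j, j ≤ 6 ∧ Nat.card Q = 5 ^ j :=
    (Nat.dvd_prime_pow (by norm_num : Nat.Prime 5)).1 (card_Uk ▸ Subgroup.card_dvd_of_le hQ)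
  rw [card_Uk, hc, ← pow_succ] at hle
  have : 5 ≤ j := by
    have := (Nat.pow_le_pow_iff_right (by norm_num : 1 < 5)).1 hle
    omega
  exact hc ▸ pow_dvd_pow 5 this

/-- The twist on a word in the twisted generators. -/
theorem twist_sub : ∀ c : List ℕ, (∀ i ∈ c, i < 8) →
    zL⁻¹ * φ (kw (sub' stabW c)) * zL = φ (kw (sub' swW c))
  | [], _ => by simp [sub', kw, wordEl]
  | j :: c, h => by
    have e : ∀ ws : List (List ℕ), sub' ws (j :: c) = ws.getD j [] ++ sub' ws c := fun ws => by simp [sub']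
    rw [e, e, kw_append, kw_append, map_mul, map_mul, ← twist (h j List.mem_cons_self),
      ← twist_sub c fun i hi => h i (List.mem_cons_of_mem _ hi)]
    group

/-- The commutators of generators of the second radical. -/
def csQ2 : List (List ℕ) := q2Gens.flatMap fun x => q2Gens.map fun y => commW x y

/-- The twists and the excluded candidate. -/
noncomputable def mainOK : Bool :=
  allMem (swW.take 5) q1Gens swBackQ1 && allMem q1Gens (swW.take 5) swInQ1 && (q1Gens == stabW.take 5) &&
  ((List.range 3).all fun i =>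
    let t := aConj.getD i ([], [])
    eqK (conjW (reps.getD 2 []) ((lev 2).getD i [])) (sub' (swW.take 5) t.1) &&
      (t.1.all fun j => Nat.blt j 5) && memOK (lev 2) (sub' (stabW.take 5) t.1) t.2) &&
  (allMem csQ2 (lev 2) aFromQ2 && allMem (lev 2) csQ2 q2InA) &&
  okW [4] && okW [14] && okW (reps.getD 2 []) && reps.all okW && uGens.all okW &&
  fixesK [4] [0] && !(Nat.beq (evK ((lev 2).getD 0 []) 4) 4) && okW ((lev 2).getD 0 [])

theorem main_check : mainOK = true := by decide +kernel

theorem sub'_take (ws : List (List ℕ)) {c : List ℕ} (hc : ∀ i ∈ c, i < 5) : sub' (ws.take 5) c = sub' ws c := by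
  refine List.flatMap_congr fun i hi => ?_
  rw [List.getD_eq_getElem?_getD, List.getD_eq_getElem?_getD, List.getElem?_take_of_lt (hc i hi)]

theorem z_norm_Q1 (D : DeltaData) : zL ∈ Subgroup.normalizer (Q1L : Set Spor.Ly) := by
  have := D.finite
  have h := main_check
  simp only [mainOK, Bool.and_eq_true, beq_iff_eq] at h
  obtain ⟨⟨⟨⟨⟨⟨⟨⟨⟨⟨⟨⟨hback, hin⟩, hq1⟩, -⟩, -⟩, -⟩, -⟩, -⟩, -⟩, -⟩, -⟩, -⟩, -⟩ := h
  have hzinv : zL⁻¹ ∈ Subgroup.normalizer (Q1L : Set Spor.Ly) := by
    refine mem_normalizer_of_le fun g hg => ?_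
    obtain ⟨q, hq, rfl⟩ := hg
    have hle : Q1k ≤ (Q1L.comap (MulAut.conj zL⁻¹).toMonoidHom).comap φ := by
      refine (Subgroup.closure_le _).2 ?_
      rintro _ ⟨w, hw, rfl⟩
      change w ∈ q1Gens at hw
      obtain ⟨j, hj, rfl⟩ := List.getElem_of_mem hw
      have hj8 : j < 8 := by simp [q1Gens] at hj; omega
      show zL⁻¹ * φ (kw q1Gens[j]) * zL⁻¹⁻¹ ∈ Q1L
      have e : q1Gens[j] = stabW.getD j [] := by
        have hl : j < (stabW.take 5).length := hq1 ▸ hj
        calc q1Gens[j] = (stabW.take 5)[j] := List.getElem_of_eq hq1 hj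
          _ = stabW[j]'(by simp [stabW]; omega) := List.getElem_take
          _ = stabW.getD j [] := (List.getD_eq_getElem _ _ _).symm
      rw [e, inv_inv, twist hj8]
      refine Subgroup.mem_map_of_mem φ (mem_span_of_allMem hin ?_)
      have hj5 : j < 5 := by simpa [q1Gens] using hj
      rw [List.getD_eq_getElem _ _ (by simp [swW]; omega), ← List.getElem_take (j := 5) (h := by simp [swW]; omega)]
      exact List.getElem_mem _
    exact hle hq
  simpa using inv_mem hzinv

theorem excluded (D : DeltaData) (hchar2 : ∀ α : MulAut Spor.Ly, UL.map α.toMonoidHom = UL →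
    Q2L.map α.toMonoidHom = Q2L) : ∀ k : Fin 6, Excluded H UL Q2L (φ (kw [14])) (zL * φ (rep k)) := by
  intro k
  have hmain := main_check
  simp only [mainOK, Bool.and_eq_true, List.all_eq_true, List.mem_range, Nat.blt_eq, beq_iff_eq,
    Bool.not_eq_true'] at hmain
  obtain ⟨⟨⟨⟨⟨⟨⟨⟨⟨⟨⟨⟨-, -⟩, -⟩, hA3⟩, ⟨hfrom, hinA⟩⟩, -⟩, h14⟩, -⟩, hreps⟩, hUok⟩, -⟩, hmv⟩, hok0⟩ := hmain
  by_cases hk : (k : ℕ) = 2
  · right
    have hA : span (lev 2) = ⁅Q2k, Q2k⁆ := by
      refine le_antisymm ((span_le fun w hw => mem_span_of_allMem hfrom hw).trans ((Subgroup.closure_le _).2 ?_)) ?_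
      · rintro _ ⟨w, hw, rfl⟩
        change w ∈ csQ2 at hw
        simp only [csQ2, List.mem_flatMap, List.mem_map] at hw
        obtain ⟨x, hx, y, hy, rfl⟩ := hw
        rw [SetLike.mem_coe, kw_commW]
        exact Subgroup.commutator_mem_commutator (kw_mem_span hx) (kw_mem_span hy)
      · have hn := U_le_norm_lev (d := 1) (by omega)
        refine commutator_closure_le (fun x hx => conj_both (hn (rad_spec.1 (Subgroup.subset_closure hx))))
          (fun y hy => conj_both (hn (rad_spec.1 (Subgroup.subset_closure hy)))) ?_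
        rintro _ ⟨x, hx, rfl⟩ _ ⟨y, hy, rfl⟩
        rw [← kw_commW]
        exact mem_span_of_allMem hinA (List.mem_flatMap.2 ⟨x, hx, List.mem_map.2 ⟨y, hy, rfl⟩⟩)
    have hAmap : (span (lev 2)).map φ = ⁅Q2L, Q2L⁆ := by rw [hA, Subgroup.map_commutator]; rfl
    refine ⟨⁅Q2L, Q2L⁆, ?_, ?_, ?_, ?_, ?_⟩
    · intro hbot
      rw [← hAmap, Subgroup.map_eq_bot_iff_of_injective _ φ_injective] at hbot
      have hl : (lev 2).getD 0 [] ∈ lev 2 := by decide
      have h1 := Subgroup.mem_bot.1 (hbot ▸ kw_mem_span hl)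
      have h2 : (ρ (kw ((lev 2).getD 0 [])) ⟨4, by decide⟩ : ℕ) = 4 := by rw [h1]; simp
      rw [ρ_kw_evK hok0] at h2
      simp only at h2
      rw [h2, Nat.beq_refl] at hmv
      simp at hmv
    · rw [← hAmap]; exact Subgroup.map_mono (lev_le_U (d := 1) (by omega))
    · intro g hg
      have hc : UL.map (MulAut.conj g).toMonoidHom = UL := by
        ext x
        rw [Subgroup.mem_map]
        constructor
        · rintro ⟨y, hy, rfl⟩; exact (Subgroup.mem_normalizer_iff.mp hg y).1 hy
        · intro hx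
          refine ⟨g⁻¹ * x * g, (Subgroup.mem_normalizer_iff.mp hg _).2 (by simpa [mul_assoc] using hx), ?_⟩
          simp [mul_assoc]
      have h2 := hchar2 _ hc
      have := D.finite
      refine mem_normalizer_of_le fun x hx => ?_
      have h3 : (⁅Q2L, Q2L⁆).map (MulAut.conj g).toMonoidHom = ⁅Q2L, Q2L⁆ := by
        rw [Subgroup.map_commutator, h2]
      exact h3 ▸ Subgroup.mem_map_of_mem (MulAut.conj g).toMonoidHom hx
    · intro g hg
      have := D.finite
      refine mem_normalizer_of_le fun x hx => ?_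
      have hc : Q2L.map (MulAut.conj g).toMonoidHom ≤ Q2L := by
        rintro _ ⟨y, hy, rfl⟩; exact (Subgroup.mem_normalizer_iff.mp hg y).1 hy
      have h3 : (⁅Q2L, Q2L⁆).map (MulAut.conj g).toMonoidHom ≤ ⁅Q2L, Q2L⁆ := by
        rw [Subgroup.map_commutator]; exact Subgroup.commutator_mono hc hc
      exact h3 (Subgroup.mem_map_of_mem (MulAut.conj g).toMonoidHom hx)
    · have := D.finite
      refine mem_normalizer_of_le fun x hx => ?_
      rw [← hAmap] at hx ⊢
      obtain ⟨a, ha, rfl⟩ := hx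
      have hle : span (lev 2) ≤ (((span (lev 2)).map φ).comap
          (MulAut.conj (zL * φ (rep k))).toMonoidHom).comap φ := by
        refine (Subgroup.closure_le _).2 ?_
        rintro _ ⟨w, hw, rfl⟩
        change w ∈ lev 2 at hw
        obtain ⟨i, hi, rfl⟩ := List.getElem_of_mem hw
        obtain ⟨⟨he, hlt⟩, hmem⟩ := hA3 i (by simpa [lev, levels, bounds] using hi)
        set t := aConj.getD i ([], [])
        show zL * φ (rep k) * φ (kw (lev 2)[i]) * (zL * φ (rep k))⁻¹ ∈ (span (lev 2)).map φ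
        have e1 := eqK_spec he
        rw [kw_conjW, List.getD_eq_getElem _ _ hi, sub'_take _ hlt] at e1
        rw [sub'_take _ hlt] at hmem
        have hrep : rep k = kw (reps.getD 2 []) := by rw [rep, hk]
        have e2 : zL * φ (rep k) * φ (kw (lev 2)[i]) * (zL * φ (rep k))⁻¹ = φ (kw (sub' stabW t.1)) := by
          have e3 := twist_sub t.1 fun j hj => lt_trans (hlt j hj) (by norm_num)
          rw [← e1, map_mul, map_mul, map_inv, ← hrep] at e3
          calc zL * φ (rep k) * φ (kw (lev 2)[i]) * (zL * φ (rep k))⁻¹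
              = zL * (φ (rep k) * φ (kw (lev 2)[i]) * (φ (rep k))⁻¹) * zL⁻¹ := by group
            _ = φ (kw (sub' stabW t.1)) := by rw [← e3]; group
        rw [e2]
        exact Subgroup.mem_map_of_mem φ (mem_span hmem)
      exact hle ha
  · left
    obtain ⟨t, ht, hkt⟩ : ∃ t ∈ excl, t.1 = (k : ℕ) := by
      obtain ⟨k, hk6⟩ := k
      simp only at hk ⊢
      interval_cases k
      exacts [⟨excl[0], List.getElem_mem _, rfl⟩, ⟨excl[1], List.getElem_mem _, rfl⟩, absurd rfl hk,
        ⟨excl[2], List.getElem_mem _, rfl⟩, ⟨excl[3], List.getElem_mem _, rfl⟩, ⟨excl[4], List.getElem_mem _, rfl⟩]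
    obtain ⟨hlt, hne⟩ := not_pow_card ht
    refine ⟨Lyons.wordLy (exclWord t.1 t.2.1), ?_, by rw [H, Lyons.natCard_lyH]; exact hne⟩
    have helw : ∀ w : List ℕ, (∀ q ∈ w, q < 20) → Lyons.wordLy w = wordEl elL w := by
      intro w
      induction w with
      | nil => intro _; simp [Lyons.wordLy, wordEl]
      | cons q w ih =>
        intro h
        have hq := h q List.mem_cons_self
        rw [show Lyons.wordLy (q :: w) = Lyons.wordLy [q] * Lyons.wordLy w by simp [Lyons.wordLy],
          ih fun x hx => h x (List.mem_cons_of_mem _ hx),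
          show wordEl elL (q :: w) = elL q * wordEl elL w by simp [wordEl]]
        congr 1
        simp only [Lyons.wordLy, List.map_cons, List.map_nil, List.prod_singleton]
        interval_cases q <;> rfl
    rw [helw _ hlt, exclWord, sub']
    set S := Subgroup.closure ((UL : Set Spor.Ly) ∪ {φ (kw [14]), zL * φ (rep k)})
    have hpiece : ∀ n, wordEl elL (([[18] ++ reps.getD t.1 [], [14]] ++ uGens).getD n []) ∈ S := by
      intro n
      rcases n with _ | _ | n
      · refine Subgroup.subset_closure (Or.inr (Or.inr ?_))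
        show wordEl elL ([18] ++ reps.getD t.1 []) = zL * φ (rep k)
        rw [hkt, wordEl_append, rep, φ_kw]
        · simp [wordEl, zL]
        · rw [List.getD_eq_getElem _ _ (by simp [reps])]; exact hreps _ (List.getElem_mem _)
      · refine Subgroup.subset_closure (Or.inr (Or.inl ?_))
        exact (φ_kw h14).symm
      · show wordEl elL (uGens.getD n []) ∈ S
        by_cases hn : n < uGens.length
        · rw [List.getD_eq_getElem _ _ hn, ← φ_kw (hUok _ (List.getElem_mem _))]
          exact Subgroup.subset_closure (Or.inl (Subgroup.mem_map_of_mem φ (kw_mem_span (List.getElem_mem _))))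
        · rw [List.getD_eq_default _ _ (by omega)]; simp [wordEl]
    have hall : ∀ c : List ℕ, wordEl elL
        (c.flatMap fun n => ([[18] ++ reps.getD t.1 [], [14]] ++ uGens).getD n []) ∈ S := by
      intro c
      induction c with
      | nil => simp [wordEl]
      | cons n c ih => rw [List.flatMap_cons, wordEl_append]; exact mul_mem (hpiece n) ih
    exact hall _

/-- The data of the criterion. -/
noncomputable def frame (D : DeltaData) : Frame Spor.Ly :=
  have := D.finite
  have hchar1 : ∀ α : MulAut Spor.Ly, UL.map α.toMonoidHom = UL → Q1L.map α.toMonoidHom = Q1L := fun α h => by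
    have hc := charQ1.map φ φ_injective
    rw [map_lowerSer, map_lowerSer] at hc
    exact hc.invariant α h (by rw [map_lowerSer]; exact congrArg (lowerSer · 4) h)
  have hchar2 : ∀ α : MulAut Spor.Ly, UL.map α.toMonoidHom = UL → Q2L.map α.toMonoidHom = Q2L := fun α h => by
    have hc := charQ2.map φ φ_injective
    rw [map_lowerSer, Subgroup.map_bot] at hc
    exact hc.invariant α h (Subgroup.map_bot _)
  { H := H
    U := UL
    Q1 := Q1L
    Q2 := Q2L
    a := φ (kw [0])
    e := φ (kw [14])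
    z := zL
    L := φ '' (kw '' {w | w ∈ stabW})
    t := fun k => φ (rep k)
    simpleH := by
      have : IsSimpleGroup ↥(Lie.chevG2.group (ZMod 5)) :=
        (S1055.result (F := ZMod 5) ⟨2, by decide, by decide⟩).1
      exact Lyons.lyHEquiv.isSimpleGroup
    U_le := by rintro _ ⟨g, -, rfl⟩; exact φ_mem g
    U_ne := fun e => by
      have h1 : Nat.card H = 5 ^ 6 := by rw [← e, UL, Subgroup.card_map_of_injective φ_injective, card_Uk]
      rw [Lyons.natCard_lyH] at h1
      norm_num at h1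
    cardU := by rw [UL, Subgroup.card_map_of_injective φ_injective, card_Uk]
    sylow := D.sylow
    char1 := hchar1
    char2 := hchar2
    norm2 := fun g hg => by
      rcases fixed_coset D (card_rad decomp_Q2 rad_spec.1) (g := g) (fun q hq => by
          obtain ⟨x, -, e⟩ := (Subgroup.mem_normalizer_iff''.mp hg (φ q)).1 (Subgroup.mem_map_of_mem φ hq)
          exact e ▸ φ_mem x) with h | ⟨v, -, hv⟩
      · exact h
      · exact (fix_Q2 _ hv).elim
    a_norm := normalizer_map rad_spec.2.2.2.2.1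
    e_norm := normalizer_map rad_spec.2.2.2.2.2.1
    gensH := by
      have h := congrArg (Subgroup.map φ) gensK
      rw [← MonoidHom.range_eq_map, range_φ, MonoidHom.map_closure, Set.image_union, Set.image_insert_eq,
        Set.image_singleton] at h
      exact h
    z_norm := z_norm_Q1 D
    move1 := fun m hm => by
      rcases fixed_coset D (card_rad decomp_Q1 rad_spec.2.1) (g := m) (fun q hq => by
          obtain ⟨x, -, e⟩ := (Subgroup.mem_normalizer_iff''.mp hm (φ q)).1 (Subgroup.mem_map_of_mem φ hq)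
          exact e ▸ φ_mem x) with h | ⟨v, hvm, hv⟩
      · exact Or.inl h
      · obtain ⟨u, hu, hu0⟩ := fibre_zero hv
        refine Or.inr ⟨φ u, Subgroup.mem_map_of_mem φ hu, ?_⟩
        have h1 : φ (u * v) • ((zL : Spor.Ly) : Spor.Ly ⧸ H) = ((zL : Spor.Ly) : Spor.Ly ⧸ H) := by
          rw [stab_z D, map_mul, Equiv.Perm.mul_apply, hu0]
        replace h1 : ((φ (u * v) * zL : Spor.Ly) : Spor.Ly ⧸ H) = ((zL : Spor.Ly) : Spor.Ly ⧸ H) := h1
        rw [QuotientGroup.eq] at h1
        have e : zL⁻¹ * φ u * m = ((φ (u * v) * zL)⁻¹ * zL)⁻¹ * ((φ v * zL)⁻¹ * m) := by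
          rw [map_mul]; group
        rw [e]
        exact mul_mem (inv_mem h1) hvm
    norm1 := fun h hh hn => by
      obtain ⟨g, rfl⟩ := exists_pre hh
      obtain ⟨k, hk⟩ := norm1K g (normalizer_comap hn)
      refine ⟨k, ?_⟩
      have h2 := normalizer_map hk
      rw [map_mul, map_inv] at h2
      exact h2
    U_norm1 := by
      rintro _ ⟨u, hu, rfl⟩
      refine normalizer_map ?_
      obtain ⟨q, hq, i, -, rfl⟩ := decomp_Q1 u hu
      exact mul_mem (Subgroup.le_normalizer hq) (pow_mem (mem_normalizer_of_le rad_spec.2.2.1) i)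
    excluded := excluded D hchar2
    L_le := by rintro _ ⟨g, -, rfl⟩; exact φ_mem g
    z_not_mem := zL_not_mem D
    L_twist := by
      rintro _ ⟨_, ⟨w, hw, rfl⟩, rfl⟩
      obtain ⟨j, hj, rfl⟩ := List.getElem_of_mem (l := stabW) hw
      rw [← List.getD_eq_getElem _ [] hj, twist (by simpa [stabW] using hj)]
      exact φ_mem _
    fixL := fun g hg => by
      have hconj : span stabW ≤ (H.comap (MulAut.conj g⁻¹).toMonoidHom).comap φ := by
        refine (Subgroup.closure_le _).2 ?_
        rintro _ ⟨w, hw, rfl⟩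
        show g⁻¹ * φ (kw w) * g⁻¹⁻¹ ∈ H
        rw [inv_inv]
        exact hg _ ⟨_, ⟨w, hw, rfl⟩, rfl⟩
      have hQ : ∀ q ∈ Q1k, g⁻¹ * φ q * g ∈ H := fun q hq => by
        have hle : Q1k ≤ span stabW := span_le fun w hw => kw_mem_span (by revert w; decide)
        have h2 : g⁻¹ * φ q * g⁻¹⁻¹ ∈ H := hconj (hle hq)
        rwa [inv_inv] at h2
      rcases fixed_coset D (card_rad decomp_Q1 rad_spec.2.1) hQ with h | ⟨v, hvm, -⟩
      · exact Or.inl h
      · refine Or.inr ?_
        have h0 : ρ v pt0 = pt0 := fix_stabW _ fun w hw => by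
          have h1 : φ (v⁻¹ * kw w * v) • ((zL : Spor.Ly) : Spor.Ly ⧸ H) = ((zL : Spor.Ly) : Spor.Ly ⧸ H) := by
            show ((φ (v⁻¹ * kw w * v) * zL : Spor.Ly) : Spor.Ly ⧸ H) = _
            rw [QuotientGroup.eq]
            have e : (φ (v⁻¹ * kw w * v) * zL)⁻¹ * zL =
                ((φ v * zL)⁻¹ * g) * (g⁻¹ * φ (kw w) * g)⁻¹ * ((φ v * zL)⁻¹ * g)⁻¹ := by
              simp only [map_mul, map_inv]; group
            rw [e]
            exact mul_mem (mul_mem hvm (inv_mem (hg _ ⟨_, ⟨w, hw, rfl⟩, rfl⟩))) (inv_mem hvm)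
          rw [stab_z D, map_mul, map_mul, map_inv, Equiv.Perm.mul_apply, Equiv.Perm.mul_apply, Equiv.Perm.inv_def,
            Equiv.symm_apply_eq] at h1
          exact h1
        have h1 : φ v • ((zL : Spor.Ly) : Spor.Ly ⧸ H) = ((zL : Spor.Ly) : Spor.Ly ⧸ H) := (stab_z D v).2 h0
        replace h1 : ((φ v * zL : Spor.Ly) : Spor.Ly ⧸ H) = ((zL : Spor.Ly) : Spor.Ly ⧸ H) := h1
        rw [QuotientGroup.eq] at h1
        have e : zL⁻¹ * g = ((φ v * zL)⁻¹ * zL)⁻¹ * ((φ v * zL)⁻¹ * g) := by group
        rw [e]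
        exact mul_mem (inv_mem h1) hvm
    centL := fun h hh hc => by
      obtain ⟨c, rfl⟩ := exists_pre hh
      rw [centK c (fun w hw => φ_injective ?_), map_one]
      obtain ⟨j, hj, rfl⟩ := List.getElem_of_mem hw
      have hj8 : j < 8 := by simpa [swW] using hj
      have h2 := hc (φ (kw (stabW.getD j []))) ⟨_, ⟨_, by
        show stabW.getD j [] ∈ stabW
        rw [List.getD_eq_getElem _ _ (by simpa [stabW] using hj8)]; exact List.getElem_mem _, rfl⟩, rfl⟩
      rw [twist hj8, List.getD_eq_getElem _ _ hj] at h2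
      rwa [map_mul, map_mul]
    gen := by
      set S := Subgroup.closure ((H : Set Spor.Ly) ∪ {zL})
      have hl : ∀ a < 20, elL a ∈ S := by
        intro a ha
        rcases Nat.lt_or_ge a 18 with h | h
        · exact Subgroup.subset_closure (Or.inl (Lyons.toLy_el a h ▸ φ_mem _))
        · interval_cases a
          · exact Subgroup.subset_closure (Or.inr rfl)
          · rw [show elL 19 = (elL 18)⁻¹ from Lyons.elL_inv 9]
            exact inv_mem (Subgroup.subset_closure (Or.inr rfl))
      rw [eq_top_iff, ← PresentedGroup.closure_range_of Lyons.lyRels, Subgroup.closure_le]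
      rintro _ ⟨x, rfl⟩
      rw [SetLike.mem_coe, Lyons.of_eq_gw]
      have hw : ∀ w : List ℕ, (∀ a ∈ w, a < 20) → wordEl elL w ∈ S := by
        intro w
        induction w with
        | nil => intro _; simp [wordEl]
        | cons a w ih =>
          intro h
          rw [show wordEl elL (a :: w) = elL a * wordEl elL w by simp [wordEl]]
          exact mul_mem (hl a (h a List.mem_cons_self)) (ih fun b hb => h b (List.mem_cons_of_mem _ hb))
      exact hw _ (by cases x <;> decide) }

/-- Every automorphism of `⟨a, b, c, d⟩` is inner. -/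
theorem aut_H_inner (β : MulAut H) : ∃ h : H, β = MulAut.conj h := by
  have : Fact (Nat.Prime 5) := ⟨by norm_num⟩
  have h1 : Nat.card (Cfsg.Out ↥H) = 1 := by
    rw [OutCert.natCard_out_congr Lyons.lyHEquiv, ChevAut.card_out_G2 (F := ZMod 5) (p := 5) (f := 1) le_rfl (by simp)]
    norm_num
  have h2 : (QuotientGroup.mk β : Cfsg.Out ↥H) = 1 := by
    obtain ⟨hs, -⟩ := Nat.card_eq_one_iff_unique.1 h1
    exact Subsingleton.elim _ _
  rw [QuotientGroup.eq_one_iff] at h2
  obtain ⟨h, e⟩ := h2
  exact ⟨h, e.symm⟩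

/-- The Lyons group has no outer automorphism. -/
theorem card_out_ly (D : DeltaData) : Nat.card (Cfsg.Out Spor.Ly) = 1 := by
  have := D.finite
  exact (frame D).card_out aut_H_inner

theorem zL_eq : zL = PresentedGroup.of Spor.Ly.Gen.z := rfl

/-- The data from the four suborbits. -/
theorem DeltaData.of_suborbits (hindex : H.index = 8835156) (x : Fin 4 → Spor.Ly)
    (hz : ∃ h ∈ H, x 0 = h * zL)
    (hcov : ∀ g : Spor.Ly, g ∈ H ∨ ∃ j, ((g : Spor.Ly) : Spor.Ly ⧸ H) ∈ LyPresented.subOrbit H x j)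
    (hsz : ∀ j, (LyPresented.subOrbit H x j).ncard = ![19530, 968750, 2034375, 5812500] j) : DeltaData := by
  obtain ⟨h0, hh0, e0⟩ := hz
  have hshift : ∀ g : Spor.Ly, ∀ k ∈ H, {q : Spor.Ly ⧸ H | ∃ h ∈ H, q = ((h * (k * g) : Spor.Ly) : Spor.Ly ⧸ H)} =
      {q : Spor.Ly ⧸ H | ∃ h ∈ H, q = ((h * g : Spor.Ly) : Spor.Ly ⧸ H)} := by
    intro g k hk
    ext q
    constructor
    · rintro ⟨h, hh, rfl⟩; exact ⟨h * k, mul_mem hh hk, by rw [mul_assoc]⟩
    · rintro ⟨h, hh, rfl⟩
      exact ⟨h * k⁻¹, mul_mem hh (inv_mem hk), congrArg _ (by group)⟩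
  refine ⟨hindex, ?_, fun g => ?_⟩
  · rw [← hshift zL h0 hh0, ← e0]
    exact hsz 0
  rcases hcov g with h | ⟨j, h, hh, e⟩
  · exact Or.inl h
  rw [QuotientGroup.eq] at e
  by_cases hj : j = 0
  · subst hj
    rw [e0] at e
    exact Or.inr (Or.inl ⟨h * h0, mul_mem hh hh0, by simpa [mul_assoc] using e⟩)
  · refine Or.inr (Or.inr ?_)
    have hset : {q : Spor.Ly ⧸ H | ∃ k ∈ H, q = ((k * g : Spor.Ly) : Spor.Ly ⧸ H)} =
        LyPresented.subOrbit H x j := by
      have key : ∀ k : Spor.Ly, ((k * g : Spor.Ly) : Spor.Ly ⧸ H) = ((k * h * x j : Spor.Ly) : Spor.Ly ⧸ H) := by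
        intro k
        rw [QuotientGroup.eq]
        simpa [mul_assoc] using e
      ext q
      constructor
      · rintro ⟨k, hk, rfl⟩; exact ⟨k * h, mul_mem hk hh, key k⟩
      · rintro ⟨k, hk, rfl⟩
        exact ⟨k * h⁻¹, mul_mem hk (inv_mem hh), by rw [key]; simp [mul_assoc]⟩
    rw [hset, hsz]
    fin_cases j
    · exact absurd rfl hj
    all_goals norm_num

end Cfsg.Agent.LyonsOut
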