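import Cfsg.Agent.Lib.LyonsOut.Table
import Cfsg.Agent.Lib.LyonsOut.Basic
import Cfsg.Agent.Lib.HNPresented.Engine

/-!
# Subgroups of the group of type G2(5) given by lists of words

* `span`, `memOK`, `mem_span` : the subgroup of a list of words, and certified membership
* `conjOK`, `conj_mem`, `mem_normalizer` : certified conjugation
* `card_insert` : one step of a central series
-/

set_option autoImplicit false
set_option maxRecDepth 100000

namespace Cfsg.Agent.LyonsOut

open Cfsg.Agent.CosetEnum
open Cfsg.Agent.HNPresented (winv sub' wordEl_winv)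
open scoped commutatorElement

theorem el_inv : ∀ n, lyHSetup.el (2 * n + 1) = (lyHSetup.el (2 * n))⁻¹ := by
  intro n
  by_cases hn : n < 9
  · interval_cases n <;> rfl
  · have h : ∀ a, 18 ≤ a → lyHSetup.el a = 1 := fun a ha => by
      unfold Setup.el
      rw [List.getElem?_eq_none]
      simpa [lyHSetup] using ha
    rw [h _ (by omega), h _ (by omega), inv_one]

theorem kw_winv (w : List ℕ) : kw (winv w) = (kw w)⁻¹ := wordEl_winv el_inv w

/-- The commutator word. -/
def commW (x y : List ℕ) : List ℕ := x ++ y ++ winv x ++ winv y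

theorem kw_commW (x y : List ℕ) : kw (commW x y) = ⁅kw x, kw y⁆ := by
  simp only [commW, kw_append, kw_winv, commutatorElement_def]

/-- The conjugate word. -/
def conjW (x g : List ℕ) : List ℕ := x ++ g ++ winv x

theorem kw_conjW (x g : List ℕ) : kw (conjW x g) = kw x * kw g * (kw x)⁻¹ := by
  simp only [conjW, kw_append, kw_winv]

/-- The subgroup of a list of words. -/
noncomputable def span (ws : List (List ℕ)) : Subgroup K := Subgroup.closure (kw '' {w | w ∈ ws})

theorem kw_mem_span {ws : List (List ℕ)} {w : List ℕ} (h : w ∈ ws) : kw w ∈ span ws :=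
  Subgroup.subset_closure ⟨w, h, rfl⟩

theorem kw_sub'_mem (ws : List (List ℕ)) : ∀ c : List ℕ, kw (sub' ws c) ∈ span ws
  | [] => by simp [sub', kw, StabCert.wordEl]
  | n :: c => by
    rw [show sub' ws (n :: c) = ws.getD n [] ++ sub' ws c by simp [sub'], kw_append]
    refine mul_mem ?_ (kw_sub'_mem ws c)
    by_cases h : n < ws.length
    · rw [List.getD_eq_getElem _ _ h]; exact kw_mem_span (List.getElem_mem h)
    · rw [List.getD_eq_default _ _ (by omega)]; simp [kw, StabCert.wordEl]

/-- Certified membership. -/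
noncomputable def memOK (ws : List (List ℕ)) (w c : List ℕ) : Bool := eqK w (sub' ws c)

theorem mem_span {ws : List (List ℕ)} {w c : List ℕ} (h : memOK ws w c = true) : kw w ∈ span ws :=
  eqK_spec h ▸ kw_sub'_mem ws c

/-- A list of certified memberships. -/
noncomputable def allMem (ws : List (List ℕ)) (xs cs : List (List ℕ)) : Bool :=
  Nat.beq xs.length cs.length && (List.range xs.length).all fun i => memOK ws (xs.getD i []) (cs.getD i [])

theorem mem_span_of_allMem {ws xs cs : List (List ℕ)} (h : allMem ws xs cs = true) {w : List ℕ} (hw : w ∈ xs) :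
    kw w ∈ span ws := by
  simp only [allMem, Bool.and_eq_true, List.all_eq_true, List.mem_range] at h
  obtain ⟨i, hi, rfl⟩ := List.getElem_of_mem hw
  have := h.2 i hi
  rw [List.getD_eq_getElem _ _ hi] at this
  exact mem_span this

theorem span_le {ws vs : List (List ℕ)} (h : ∀ w ∈ ws, kw w ∈ span vs) : span ws ≤ span vs :=
  (Subgroup.closure_le _).2 (by rintro _ ⟨w, hw, rfl⟩; exact h w hw)

/-- Conjugates of the generators by a word stay in the subgroup. -/
noncomputable def conjOK (ws : List (List ℕ)) (x : List ℕ) (cs : List (List ℕ)) : Bool :=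
  allMem ws (ws.map (conjW x)) cs

theorem conj_mem {ws : List (List ℕ)} {x : List ℕ} {cs : List (List ℕ)} (h : conjOK ws x cs = true) :
    ∀ g ∈ span ws, kw x * g * (kw x)⁻¹ ∈ span ws := by
  intro g hg
  have h1 : span ws ≤ (span ws).comap (MulAut.conj (kw x)).toMonoidHom := by
    refine (Subgroup.closure_le _).2 ?_
    rintro _ ⟨w, hw, rfl⟩
    show MulAut.conj (kw x) (kw w) ∈ span ws
    rw [MulAut.conj_apply, ← kw_conjW]
    exact mem_span_of_allMem h (List.mem_map_of_mem hw)
  exact h1 hg

/-- In a finite group a one-sided normalisation is enough. -/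
theorem mem_normalizer_of_le {G : Type*} [Group G] [Finite G] {S : Subgroup G} {x : G}
    (h : ∀ g ∈ S, x * g * x⁻¹ ∈ S) : x ∈ Subgroup.normalizer (S : Set G) := by
  have he : S.map (MulAut.conj x).toMonoidHom = S := by
    refine Subgroup.eq_of_le_of_card_ge ?_ ?_
    · rintro _ ⟨g, hg, rfl⟩; exact h g hg
    · exact (Nat.card_congr (S.equivMapOfInjective _ (MulAut.conj x).injective).toEquiv).le
  rw [Subgroup.mem_normalizer_iff]
  intro g
  refine ⟨h g, fun hg => ?_⟩
  rw [← he] at hg
  obtain ⟨y, hy, e⟩ := hg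
  exact (MulAut.conj x).injective e ▸ hy

theorem mem_normalizer {ws : List (List ℕ)} {x : List ℕ} {cs : List (List ℕ)} (h : conjOK ws x cs = true) :
    kw x ∈ Subgroup.normalizer (span ws : Set K) := mem_normalizer_of_le (conj_mem h)

theorem span_snoc (ws : List (List ℕ)) (x : List ℕ) :
    span (ws ++ [x]) = Subgroup.closure ((span ws : Set K) ∪ {kw x}) := by
  refine le_antisymm ((Subgroup.closure_le _).2 ?_) ((Subgroup.closure_le _).2 ?_)
  · rintro _ ⟨w, hw, rfl⟩
    rcases List.mem_append.1 hw with hw | hw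
    · exact Subgroup.subset_closure (Or.inl (kw_mem_span hw))
    · rw [List.mem_singleton.1 hw]; exact Subgroup.subset_closure (Or.inr rfl)
  · rintro g (hg | rfl)
    · exact span_le (fun w hw => kw_mem_span (List.mem_append_left _ hw)) hg
    · exact kw_mem_span (by simp)

/-- One step of a series: the order grows by the prime. -/
theorem card_insert {G : Type*} [Group G] [Finite G] {Q : Subgroup G} {x : G} {p : ℕ} (hp : p.Prime)
    (hx : x ^ p ∈ Q) (hn : ∀ q ∈ Q, x * q * x⁻¹ ∈ Q) (hxQ : x ∉ Q) :
    Nat.card (Subgroup.closure ((Q : Set G) ∪ {x})) = p * Nat.card Q := by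
  set S := Subgroup.closure ((Q : Set G) ∪ {x})
  let f : Q × Fin p → S := fun q => ⟨(q.1 : G) * x ^ (q.2 : ℕ), mul_mem
    (Subgroup.subset_closure (Or.inl q.1.2)) (pow_mem (Subgroup.subset_closure (Or.inr rfl) : x ∈ S) _)⟩
  have hinj : ∀ i j : ℕ, i ≤ j → j < p → ∀ q r : G, q ∈ Q → r ∈ Q → q * x ^ i = r * x ^ j → i = j := by
    intro i j hij hj q r hq hr e
    by_contra hne
    have h1 : x ^ (j - i) ∈ Q := by
      have : x ^ (j - i) = r⁻¹ * q := by
        rw [pow_sub _ hij]
        calc x ^ j * (x ^ i)⁻¹ = r⁻¹ * (r * x ^ j) * (x ^ i)⁻¹ := by group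
          _ = r⁻¹ * q := by rw [← e]; group
      rw [this]; exact mul_mem (inv_mem hr) hq
    have hc : Nat.gcd (j - i) p = 1 :=
      Nat.Coprime.symm (hp.coprime_iff_not_dvd.2 fun hd => by
        have := Nat.le_of_dvd (by omega) hd; omega)
    refine hxQ ?_
    have hb := Nat.gcd_eq_gcd_ab (j - i) p
    rw [hc, Nat.cast_one] at hb
    have hx1 : x = x ^ (1 : ℤ) := (zpow_one x).symm
    rw [hx1, hb, zpow_add, zpow_mul, zpow_mul, zpow_natCast, zpow_natCast]
    exact mul_mem (Q.zpow_mem h1 _) (Q.zpow_mem hx _)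
  have hf : Function.Bijective f := by
    refine ⟨fun q r e => ?_, fun s => ?_⟩
    · have e' := congrArg Subtype.val e
      simp only [f] at e'
      have hij : q.2 = r.2 := Fin.ext (by
        rcases le_total (q.2 : ℕ) r.2 with h | h
        · exact hinj _ _ h r.2.2 _ _ q.1.2 r.1.2 e'
        · exact (hinj _ _ h q.2.2 _ _ r.1.2 q.1.2 e'.symm).symm)
      rw [hij] at e'
      exact Prod.ext (Subtype.ext (mul_right_cancel e')) hij
    · obtain ⟨q, hq, i, hi, e⟩ := closure_insert_decomp hp.pos hx hn s s.2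
      exact ⟨(⟨q, hq⟩, ⟨i, hi⟩), Subtype.ext e.symm⟩
  rw [← Nat.card_congr (Equiv.ofBijective f hf), Nat.card_prod, Nat.card_fin, mul_comm]

end Cfsg.Agent.LyonsOut
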