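import Cfsg.Agent.Lib.CosetEnum.Index
import Cfsg.Agent.Lib.CosetEnum.BaseLyH
import Cfsg.Agent.Lib.CosetEnum.BoundLyH
import Cfsg.Agent.Lib.Lyons.TabData
import Cfsg.Agent.Lib.StabCert.Chain

/-!
# The group of type G2(5) on 19530 points, read on words

* `T`, `ρ`, `ρ_injective`, `base_faithful` : the action of the presented group on the table
* `stab0` : the stabiliser of the first point
* `kw`, `ρ_kw` : elements of words, and their images
* `eqK`, `movesK`, `fixedSet` : the checks
-/

set_option autoImplicit false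
set_option maxRecDepth 100000

namespace Cfsg.Agent.LyonsOut

open Cfsg.Agent.CosetEnum Cfsg.Agent.CosetEnum.Setup
open Cfsg.Agent.StabCert (look wordEl)

/-- The group. -/
abbrev K : Type := lyHSetup.G

open LyH in
/-- Generators of the stabiliser of a point. -/
def stabGens : List (FreeGroup LyH.Gen) := [c, c2, c3, c4, c5, a, b * a * b⁻¹, b * b * a * b⁻¹ * b⁻¹]

theorem stab_tableOK : tableOK lyHSetup lyHTab stabGens [] = true := by decide +kernel

theorem T : Table lyHSetup lyHTab stabGens :=
  Table.mk' lyHSetup_gens lyHTab_check stab_tableOK (by simp)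

/-- The action on the table. -/
noncomputable def ρ : K →* Equiv.Perm (Fin lyHTab.n) := hom T.gens T.letters T.perm T.rels

theorem chain_ok : chainOK lyHTab lyHTab_chain [] = true ∧ chainSize lyHTab_chain = 5859000000 := by
  have h := lyHTab_chain_check
  simp only [Bool.and_eq_true, Nat.beq_eq] at h
  exact h

theorem card_K : Nat.card K = 5859000000 :=
  (card_eq_of_bounds T.gens T.letters T.perm T.rels lyHTab_chain chain_ok.1 lyH_card_le chain_ok.2).1

theorem ρ_injective : Function.Injective ρ :=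
  (card_eq_of_bounds T.gens T.letters T.perm T.rels lyHTab_chain chain_ok.1 lyH_card_le chain_ok.2).2

instance finite_K : Finite K := Nat.finite_of_card_ne_zero lyH_card_le.2

/-- The first point. -/
def pt0 : Fin lyHTab.n := ⟨0, by decide⟩

/-- The table is transitive, and the stabiliser of the first point is generated by `stabGens`. -/
theorem exists_coset_equiv : ∃ e : Fin lyHTab.n ≃ K ⧸ lyHSetup.closureOf stabGens,
    e pt0 = ((1 : K) : K ⧸ lyHSetup.closureOf stabGens) ∧ ∀ g i, g • e i = e (ρ g i) := by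
  obtain ⟨ext, hsrc, hext⟩ := T.src
  exact exists_equiv T.gens T.letters T.check T.rels T.perm T.subs hsrc _ rfl hext

theorem stab0 (g : K) : ρ g pt0 = pt0 ↔ g ∈ lyHSetup.closureOf stabGens := by
  obtain ⟨e, he, heq⟩ := exists_coset_equiv
  rw [← e.apply_eq_iff_eq, ← heq, he]
  show ((g * 1 : K) : K ⧸ lyHSetup.closureOf stabGens) = _ ↔ _
  rw [mul_one, QuotientGroup.eq]
  simp

theorem transitive (i : Fin lyHTab.n) : ∃ g : K, ρ g pt0 = i := by
  obtain ⟨e, he, heq⟩ := exists_coset_equiv
  obtain ⟨g, hg⟩ := QuotientGroup.mk_surjective (e i)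
  refine ⟨g, e.injective ?_⟩
  rw [← heq, he, ← hg]
  show ((g * 1 : K) : K ⧸ lyHSetup.closureOf stabGens) = _
  rw [mul_one]

/-- The element of a word. -/
noncomputable def kw (w : List ℕ) : K := wordEl lyHSetup.el w

theorem ev_reverse {M : Type*} [Group M] (el : ℕ → M) : ∀ w : List ℕ, Data.ev el w.reverse = wordEl el w
  | [] => rfl
  | a :: w => by
    rw [List.reverse_cons, Data.ev_append, ev_reverse el w, wordEl, wordEl, List.map_cons, List.prod_cons]
    simp [Data.ev]

theorem kw_append (v w : List ℕ) : kw (v ++ w) = kw v * kw w := StabCert.wordEl_append _ _ _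

/-- The letters are in range. -/
def okW (w : List ℕ) : Bool := w.all fun a => Nat.blt a 18

theorem ρ_el {a : ℕ} (ha : a < 18) : ρ (lyHSetup.el a) = perm lyHTab T.perm a :=
  hom_el T.gens T.letters T.perm T.rels ha

theorem ρ_kw {w : List ℕ} (h : okW w = true) (i : Fin lyHTab.n) :
    (ρ (kw w) i : ℕ) = lyHTab.tw w.reverse i := by
  have hw : ∀ a ∈ w.reverse, a < lyHTab.k := fun a ha => by
    simp only [okW, List.all_eq_true, Nat.blt_eq] at h
    exact h a (List.mem_reverse.1 ha)
  have key : ∀ v : List ℕ, (∀ a ∈ v, a < lyHTab.k) →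
      ρ (Data.ev lyHSetup.el v) = Data.ev (perm lyHTab T.perm) v := by
    intro v
    induction v with
    | nil => intro _; simp [Data.ev]
    | cons a v ih =>
      intro hv
      simp only [Data.ev, map_mul, ih fun b hb => hv b (List.mem_cons_of_mem a hb),
        ρ_el (hv a List.mem_cons_self)]
  rw [kw, ← ev_reverse, key _ hw, ev_perm T.perm _ hw]

theorem tab_eq {a : ℕ} (ha : a < 18) : Lyons.tab.getD a 0 = lyHTab.trace [a] := by
  interval_cases a
  exacts [Nat.eq_of_beq_eq_true Lyons.tab0_eq, Nat.eq_of_beq_eq_true Lyons.tab1_eq,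
    Nat.eq_of_beq_eq_true Lyons.tab2_eq, Nat.eq_of_beq_eq_true Lyons.tab3_eq,
    Nat.eq_of_beq_eq_true Lyons.tab4_eq, Nat.eq_of_beq_eq_true Lyons.tab5_eq,
    Nat.eq_of_beq_eq_true Lyons.tab6_eq, Nat.eq_of_beq_eq_true Lyons.tab7_eq,
    Nat.eq_of_beq_eq_true Lyons.tab8_eq, Nat.eq_of_beq_eq_true Lyons.tab9_eq,
    Nat.eq_of_beq_eq_true Lyons.tab10_eq, Nat.eq_of_beq_eq_true Lyons.tab11_eq,
    Nat.eq_of_beq_eq_true Lyons.tab12_eq, Nat.eq_of_beq_eq_true Lyons.tab13_eq,
    Nat.eq_of_beq_eq_true Lyons.tab14_eq, Nat.eq_of_beq_eq_true Lyons.tab15_eq,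
    Nat.eq_of_beq_eq_true Lyons.tab16_eq, Nat.eq_of_beq_eq_true Lyons.tab17_eq]

theorem act_eq_look {a : ℕ} (ha : a < 18) {i : ℕ} (hi : i < 2 ^ lyHTab.lg) :
    lyHTab.act a i = look 19 (Lyons.tab.getD a 0) i := by
  have hw : ∀ b ∈ [a], b < lyHTab.k := by intro b hb; rw [List.mem_singleton.1 hb]; exact ha
  have h := lane_pack T.perm.hB (fun j hj => self_lt_two_pow_of_lt (by have := T.perm.hlg; omega)
    (Data.tw_lt T.perm [a] hw j hj)) hi
  rw [← Data.trace_eq T.perm [a] hw, ← tab_eq ha, lane_def] at h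
  rw [look]
  change lyHTab.act a i = (Lyons.tab.getD a 0 >>> (19 * i)) &&& (2 ^ 19 - 1)
  rw [Nat.mul_comm]
  exact h.symm

/-- An entry of a packed table, read through its block of 256 entries. -/
noncomputable def look2 (T i : ℕ) : ℕ :=
  force (Nat.land (Nat.shiftRight T (Nat.mul 4864 (Nat.div i 256))) (Nat.sub (Nat.shiftLeft 1 4864) 1)) fun c =>
    Nat.land (Nat.shiftRight c (Nat.mul 19 (Nat.mod i 256))) 524287

theorem look2_eq (T i : ℕ) : look2 T i = look 19 T i := by
  rw [look2, force_eq]
  show ((T >>> (4864 * (i / 256)) &&& (1 <<< 4864 - 1)) >>> (19 * (i % 256))) &&& 524287 =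
    (T >>> (19 * i)) &&& (2 ^ 19 - 1)
  rw [show (524287 : ℕ) = 2 ^ 19 - 1 by norm_num, Nat.shiftLeft_eq, one_mul]
  refine Nat.eq_of_testBit_eq fun b => ?_
  simp only [Nat.testBit_and, Nat.testBit_shiftRight, Nat.testBit_two_pow_sub_one]
  have hi := Nat.div_add_mod i 256
  have hr := Nat.mod_lt i (show 256 > 0 by norm_num)
  by_cases hb : b < 19
  · rw [decide_eq_true (show 19 * (i % 256) + b < 4864 by omega),
      show 4864 * (i / 256) + (19 * (i % 256) + b) = 19 * i + b by omega]
    simp
  · simp [hb]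

/-- The image of a point under a word, read in the packed tables. -/
noncomputable def evK : List ℕ → ℕ → ℕ
  | [], i => i
  | a :: l, i => force (evK l i) fun j => look2 (Lyons.tab.getD a 0) j

theorem ρ_kw_evK {w : List ℕ} (h : okW w = true) (i : Fin lyHTab.n) : (ρ (kw w) i : ℕ) = evK w i := by
  induction w with
  | nil => simp [kw, wordEl, evK]
  | cons a w ih =>
    simp only [okW, List.all_cons, Bool.and_eq_true, Nat.blt_eq] at h
    have h1 : kw (a :: w) = lyHSetup.el a * kw w := by simp [kw, wordEl]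
    rw [h1, map_mul, Equiv.Perm.mul_apply, ρ_el h.1, perm_apply T.perm h.1,
      act_eq_look h.1 (lt_of_lt_of_le (ρ (kw w) i).2 T.perm.hnN), ih h.2, evK, force_eq, look2_eq]

/-- The chain with a further factor: the common stabiliser of the roots. -/
theorem chain_mul_le {D : Data} (hp : D.PermFacts) : ∀ (l : List OrbitData) (roots : List ℕ),
    chainOK D l roots = true → (∀ b ∈ roots, b < D.n) → ∀ (P : Subgroup (Equiv.Perm (Fin D.n))),
    (∀ g : Equiv.Perm (Fin D.n), (∃ w, (∀ a ∈ w, a < D.k) ∧ g = Data.ev (perm D hp) w) →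
      (∀ b ∈ roots, ∀ i : Fin D.n, (i : ℕ) = b → g i = i) → g ∈ P) →
    ∀ (g0 : Equiv.Perm (Fin D.n)), g0 ∈ P → (∀ O ∈ l, ∀ i : Fin D.n, (i : ℕ) = O.root → g0 i = i) →
      g0 ≠ 1 → chainSize l < Nat.card P
  | [], _, _, _, P, _, g0, hg, _, hne => by
    have : Nontrivial P := ⟨⟨⟨g0, hg⟩, 1, fun e => hne (congrArg Subtype.val e)⟩⟩
    exact Finite.one_lt_card
  | O :: l, roots, h, hroots, P, hP, g0, hg, hfix0, hne => by
    change (D.reachOK O && ((O.words.all fun w => roots.all fun b => Nat.beq (lane D.B (D.trace w) b) b) &&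
      chainOK D l (O.root :: roots))) = true at h
    simp only [Bool.and_eq_true, List.all_eq_true, Nat.beq_eq] at h
    obtain ⟨hreach, hfix, hrest⟩ := h
    obtain ⟨hrootmem, hcard, hind⟩ := Data.orbit_reach hp hreach
    have hwk : ∀ w ∈ O.words, ∀ a ∈ w, a < D.k := by
      intro w hw
      obtain ⟨j, hj, rfl⟩ := List.getElem_of_mem hw
      unfold Data.reachOK at hreach
      simp only [Bool.and_eq_true, Nat.beq_eq, List.all_eq_true] at hreach
      have := hreach.2.2.2.1 (O.words[j], O.sels[j]'(by have := hreach.1; omega))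
        (List.mem_of_getElem (i := j) (h := by simp; have := hreach.1; omega) (by simp))
      unfold Data.orbSelOK at this
      simp only [Bool.and_eq_true, List.all_eq_true, Nat.blt_eq] at this
      exact this.1
    have hwP : ∀ w ∈ O.words, Data.ev (perm D hp) w ∈ P := fun w hw => hP _ ⟨w, hwk w hw, rfl⟩ fun b hb i hi => by
      have := hfix w hw b hb
      rw [Data.trace_eq hp w (hwk w hw), lane_pack hp.hB
        (fun j hj => self_lt_two_pow_of_lt (by have := hp.hlg; omega) (Data.tw_lt hp w (hwk w hw) j hj))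
        (lt_of_lt_of_le (hroots b hb) hp.hnN)] at this
      exact Fin.ext (by rw [ev_perm hp w (hwk w hw), hi, this])
    set r : Fin D.n := ⟨O.root, hrootmem.1⟩
    have horbit : ∀ i ∈ Data.maskSet D O, ∃ x ∈ MulAction.orbit P r, ((x : Fin D.n) : ℕ) = i := by
      refine hind ⟨r, MulAction.mem_orbit_self r, rfl⟩ fun w hw i hi => ?_
      rintro ⟨x, hx, rfl⟩
      refine ⟨Data.ev (perm D hp) w x, ?_, ev_perm hp w (hwk w hw) x⟩
      exact MulAction.mem_orbit_of_mem_orbit (⟨Data.ev (perm D hp) w, hwP w hw⟩ : P) hx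
    have horb : O.size ≤ Nat.card (MulAction.orbit P r) := by
      have hsub : Data.maskSet D O ⊆ (fun x : Fin D.n => (x : ℕ)) '' MulAction.orbit P r := fun i hi => by
        obtain ⟨x, hx, e⟩ := horbit i hi
        exact ⟨x, hx, e⟩
      rw [← hcard, Nat.card_coe_set_eq, ← Set.ncard_image_of_injective _ Fin.val_injective]
      exact Set.ncard_le_ncard hsub (Set.toFinite _)
    let Q : Subgroup (Equiv.Perm (Fin D.n)) := P ⊓ MulAction.stabilizer (Equiv.Perm (Fin D.n)) r
    have hQ := chain_mul_le hp l (O.root :: roots) hrest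
      (fun b hb => by rcases List.mem_cons.mp hb with rfl | hb; exacts [hrootmem.1, hroots b hb]) Q
      (fun g hg hb => ⟨hP g hg fun b hb' i hi => hb b (List.mem_cons_of_mem _ hb') i hi,
        hb O.root List.mem_cons_self r rfl⟩) g0 ⟨hg, hfix0 O List.mem_cons_self r rfl⟩
      (fun O' hO' => hfix0 O' (List.mem_cons_of_mem _ hO')) hne
    have hstab : Nat.card Q ≤ Nat.card (MulAction.stabilizer P r) := by
      refine Nat.card_le_card_of_injective (fun q => ⟨⟨q.1, q.2.1⟩, q.2.2⟩) fun q q' h => ?_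
      exact Subtype.ext (congrArg (fun x : MulAction.stabilizer P r => x.1.1) h)
    have hO : 0 < Nat.card (MulAction.orbit P r) := by
      have : Nonempty (MulAction.orbit P r) := ⟨⟨r, MulAction.mem_orbit_self r⟩⟩
      exact Nat.card_pos
    show O.size * chainSize l < Nat.card P
    calc O.size * chainSize l ≤ Nat.card (MulAction.orbit P r) * chainSize l := Nat.mul_le_mul_right _ horb
      _ < Nat.card (MulAction.orbit P r) * Nat.card (MulAction.stabilizer P r) :=
          Nat.mul_lt_mul_of_pos_left (hQ.trans_le hstab) hO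
      _ = Nat.card P := by
          rw [← Nat.card_prod]
          exact Nat.card_congr (MulAction.orbitProdStabilizerEquivGroup P r)

theorem roots_eq : lyHTab_chain.map OrbitData.root = [0, 1, 3, 4] := by decide +kernel

/-- An element fixing the four base points is trivial. -/
theorem base_faithful {g : K} (h : ∀ i : Fin lyHTab.n, (i : ℕ) ∈ [0, 1, 3, 4] → ρ g i = i) : g = 1 := by
  by_contra hne
  have h1 := chain_mul_le T.perm lyHTab_chain [] chain_ok.1 (by simp) ρ.range
    (fun p ⟨w, hw, e⟩ _ => e ▸ ev_perm_mem_range T.gens T.letters T.perm T.rels w hw) (ρ g) ⟨g, rfl⟩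
    (fun O hO i hi => h i (by rw [hi, ← roots_eq]; exact List.mem_map_of_mem hO))
    (fun e => hne (ρ_injective (e.trans (map_one ρ).symm)))
  rw [chain_ok.2] at h1
  have h2 : Nat.card ρ.range = 5859000000 := by
    rw [← card_K]; exact (Nat.card_congr (MonoidHom.ofInjective ρ_injective).toEquiv).symm
  omega

/-- Two words give the same element: they agree on the four base points. -/
noncomputable def eqK (v w : List ℕ) : Bool :=
  okW v && okW w && [0, 1, 3, 4].all fun i => Nat.beq (evK v i) (evK w i)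

theorem eqK_spec {v w : List ℕ} (h : eqK v w = true) : kw v = kw w := by
  simp only [eqK, Bool.and_eq_true, List.all_eq_true, Nat.beq_eq] at h
  refine inv_mul_eq_one.1 (base_faithful fun i hi => ?_)
  have e : ρ (kw v) i = ρ (kw w) i := Fin.ext (by rw [ρ_kw_evK h.1.1, ρ_kw_evK h.1.2]; exact h.2 i hi)
  rw [map_mul, map_inv, Equiv.Perm.mul_apply, ← e, Equiv.Perm.inv_def, Equiv.symm_apply_apply]

/-- Every point not in the list is moved by one of the words. -/
noncomputable def fixedSet (ws : List (List ℕ)) (S : List ℕ) : Bool :=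
  ws.all okW && (List.range 19530).all fun i => S.contains i || ws.any fun w => !(Nat.beq (evK w i) i)

theorem fixedSet_spec {ws : List (List ℕ)} {S : List ℕ} (h : fixedSet ws S = true) {i : Fin lyHTab.n}
    (hi : ∀ w ∈ ws, ρ (kw w) i = i) : (i : ℕ) ∈ S := by
  simp only [fixedSet, Bool.and_eq_true, List.all_eq_true, List.mem_range, Bool.or_eq_true,
    List.contains_iff_mem, List.any_eq_true, Bool.not_eq_true'] at h
  rcases h.2 i i.2 with h2 | ⟨w, hw, hne⟩
  · exact h2
  · exfalso
    have := congrArg Fin.val (hi w hw)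
    rw [ρ_kw_evK (h.1 w hw)] at this
    rw [this, Nat.beq_refl] at hne
    simp at hne

/-- A word fixes the points. -/
noncomputable def fixesK (w : List ℕ) (S : List ℕ) : Bool := okW w && S.all fun i => Nat.beq (evK w i) i

theorem fixesK_spec {w : List ℕ} {S : List ℕ} (h : fixesK w S = true) {i : Fin lyHTab.n} (hi : (i : ℕ) ∈ S) :
    ρ (kw w) i = i := by
  simp only [fixesK, Bool.and_eq_true, List.all_eq_true, Nat.beq_eq] at h
  exact Fin.ext ((ρ_kw_evK h.1 i).trans (h.2 i hi))

end Cfsg.Agent.LyonsOut
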